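import Cfsg.Agent.Lib.DoublyPrimitive55.Semiregular

/-!
# The stabilizer of a block acts on it as an affine group
-/

set_option autoImplicit false

namespace Cfsg.Agent.Lib.DoublyPrimitive55

open MulAction

variable {G Ω : Type*} [Group G] [Finite G] [MulAction G Ω] [FaithfulSMul G Ω] [Finite Ω]
  {p : ℕ} (S : Sys G Ω p)

namespace Sys

/-- The points of a block. -/
abbrev Pts (a b : Ω) : Type _ := {w : Ω // S.R a b w}

instance lAct (a b : Ω) : MulAction (S.L a b) (S.Pts a b) where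
  smul g w := ⟨(g : G) • (w : Ω), g.2.2 w w.2⟩
  one_smul w := Subtype.ext (one_smul G (w : Ω))
  mul_smul g h w := Subtype.ext (mul_smul (g : G) (h : G) (w : Ω))

omit [Finite G] [FaithfulSMul G Ω] [Finite Ω] in
theorem lAct_coe {a b : Ω} (g : S.L a b) (w : S.Pts a b) :
    ((g • w : S.Pts a b) : Ω) = (g : G) • (w : Ω) := rfl

omit [Finite G] [FaithfulSMul G Ω] in
theorem card_Pts {a b : Ω} (hab : a ≠ b) : Nat.card (S.Pts a b) = p := by
  exact (Nat.card_coe_set_eq _).trans (S.card_block hab.symm)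

theorem lAct_faithful (hp : p.Prime) {a b : Ω} (hab : a ≠ b) :
    FaithfulSMul (S.L a b) (S.Pts a b) := by
  refine ⟨fun {g g'} h => ?_⟩
  have hm : (g⁻¹ * g' : S.L a b).1 ∈ S.K1 a b := by
    refine ⟨(g⁻¹ * g').2.1, fun w hw => ?_⟩
    have e : (g⁻¹ * g') • (⟨w, hw⟩ : S.Pts a b) = ⟨w, hw⟩ := by
      rw [mul_smul, ← h, inv_smul_smul]
    exact congrArg Subtype.val e
  rw [S.K1_eq_bot hp hab, Subgroup.mem_bot] at hm
  exact inv_mul_eq_one.1 (Subtype.ext hm)

theorem lAct_pretransitive (hp : p.Prime) (a b : Ω) : IsPretransitive (S.L a b) (S.Pts a b) := by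
  refine ⟨fun x y => ?_⟩
  obtain ⟨g, hg, hgx⟩ := S.exists_K_smul hp (S.trans (S.symm x.2) y.2)
  exact ⟨⟨g, S.K_le_L hg⟩, Subtype.ext hgx⟩

/-- If the kernel meets the stabilizer of a point trivially, it is a normal subgroup of order `p`. -/
theorem exists_affine_of_inf (hp : p.Prime) {a b : Ω} (hab : a ≠ b)
    (hC : S.K a ⊓ stabilizer G b = ⊥) :
    ∃ e : S.Pts a b ≃ ZMod p, ∀ g : S.L a b, ∃ m c : ZMod p, ∀ x, e (g • x) = m * e x + c := by
  haveI := Fact.mk hp
  haveI := S.lAct_faithful hp hab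
  haveI := S.lAct_pretransitive hp a b
  set A := (S.K a).subgroupOf (S.L a b)
  haveI : A.Normal := ⟨fun n hn g => by
    show (g : G) * (n : G) * (g : G)⁻¹ ∈ S.K a
    exact S.conj_K_stab g.2.1 hn⟩
  refine PrimeDegree.affine_of_normal_order_p (S.card_Pts hab) A ?_
  rw [Nat.card_congr (Subgroup.subgroupOfEquivOfLe S.K_le_L).toEquiv,
    ← Subgroup.index_mul_card (stabilizer (S.K a) b), index_stabilizer]
  have h1 : stabilizer (S.K a) b = ⊥ := by
    rw [Subgroup.eq_bot_iff_forall]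
    intro g hg
    have : (g : G) ∈ S.K a ⊓ stabilizer G b := ⟨g.2, hg⟩
    rw [hC, Subgroup.mem_bot] at this
    exact Subtype.ext this
  rw [h1, Subgroup.card_bot, mul_one]
  refine Eq.trans ?_ (S.card_block hab.symm)
  congr 1
  ext w
  constructor
  · rintro ⟨g, rfl⟩
    exact g.2.2 b hab.symm
  · intro hw
    obtain ⟨g, hg, hgb⟩ := S.exists_K_smul hp hw
    exact ⟨⟨g, hg⟩, hgb⟩

/-- The affine case for the blocks: the block stabilizer is solvable. -/
theorem solvable_of_affine_blocks (hp : p.Prime) {a b : Ω} (hab : a ≠ b)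
    (haff : ∃ e : S.Blk a ≃ ZMod p, ∀ g : stabilizer G a, ∃ m c : ZMod p,
      ∀ x, e (S.blockPerm a g x) = m * e x + c) :
    Group.IsSolvable (S.L a b) := by
  classical
  haveI := Fact.mk hp
  haveI := Fintype.ofFinite Ω
  haveI := S.lAct_faithful hp hab
  haveI := S.lAct_pretransitive hp a b
  by_contra hns
  obtain ⟨h2, hp5⟩ := PrimeDegree.burnside (G := S.L a b) (S.card_Pts hab) hns
  rw [MulAction.is_two_pretransitive_iff] at h2
  have bR : S.R a b b := S.refl hab.symm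
  -- transitivity on the block minus `b`
  have htH : ∀ {c d}, S.R a b c → c ≠ b → S.R a b d → d ≠ b → ∃ h ∈ S.H a b, h • c = d := by
    intro c d hc hcb hd hdb
    obtain ⟨g, hg1, hg2⟩ := h2 (a := (⟨b, bR⟩ : S.Pts a b)) (b := ⟨c, hc⟩) (c := ⟨b, bR⟩) (d := ⟨d, hd⟩)
      (fun e => hcb (congrArg Subtype.val e).symm) (fun e => hdb (congrArg Subtype.val e).symm)
    exact ⟨g, S.mem_H.2 ⟨g.2.1, congrArg Subtype.val hg1⟩, congrArg Subtype.val hg2⟩
  obtain ⟨t, hta, htb⟩ := S.two_trans hab hab.symm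
  have htinv : ∀ {y}, S.R b a y → S.R a b (t⁻¹ • y) := fun {y} hy =>
    (S.R_smul_iff t).1 (by rw [hta, htb, smul_inv_smul]; exact hy)
  have htinvne : ∀ {y}, y ≠ a → t⁻¹ • y ≠ b := fun {y} hy e => hy (by
    rw [inv_smul_eq_iff, htb] at e; exact e)
  have htH' : ∀ {h}, h ∈ S.H a b → t * h * t⁻¹ ∈ S.H a b := fun {h} hh => by
    have := (S.conj_mem_H (k := t)).2 hh
    rwa [hta, htb, S.H_comm] at this
  have htHinv : ∀ {h}, h ∈ S.H a b → t⁻¹ * h * t ∈ S.H a b := fun {h} hh => by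
    refine (S.conj_mem_H (k := t)).1 ?_
    rw [hta, htb, S.H_comm, show t * (t⁻¹ * h * t) * t⁻¹ = h by group]
    exact hh
  -- the other block of `b` lies outside the block of `a`
  obtain ⟨y₀, hy₀, hy₀a, hy₀X⟩ := S.exists_outside hp hab
  have hY : ∀ {y}, S.R b a y → y ≠ a → ¬ S.R a b y := by
    intro y hy hya hyX
    obtain ⟨h, hh, e⟩ := htH (htinv hy) (htinvne hya) (htinv hy₀) (htinvne hy₀a)
    have hh' := htH' hh
    have e' : (t * h * t⁻¹) • y = y₀ := by rw [mul_smul, mul_smul, e, smul_inv_smul]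
    exact hy₀X (e' ▸ S.R_smul_H hh' hyX)
  -- the homomorphism to the permutations of the blocks
  obtain ⟨e, he⟩ := haff
  let φ : S.H a b →* stabilizer G a :=
    { toFun := fun h => ⟨t * h * t⁻¹, (htH' h.2).1⟩
      map_one' := Subtype.ext (by simp)
      map_mul' := fun x y => Subtype.ext (by simp [mul_assoc]) }
  let ψ : S.H a b →* Equiv.Perm (S.Blk a) := (S.blockPerm a).comp φ
  set x0 := e ⟨S.blk a b, b, hab.symm, rfl⟩
  have hψaff : ∀ h, ∃ m : ZMod p, ∀ x, e (ψ h x) = m * (e x - x0) + x0 := by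
    intro h
    obtain ⟨m, c, hmc⟩ := he (φ h)
    have h0 := hmc ⟨S.blk a b, b, hab.symm, rfl⟩
    rw [(S.blockPerm_fix_iff hab.symm (φ h)).2
      (by show S.R a b ((t * (h : G) * t⁻¹) • b); rw [(htH' h.2).2]; exact bR)] at h0
    refine ⟨m, fun x => ?_⟩
    show e (S.blockPerm a (φ h) x) = _
    rw [hmc]
    linear_combination -h0
  have hcomm : ∀ x y : ψ.range, x * y = y * x := by
    rintro ⟨_, h, rfl⟩ ⟨_, k, rfl⟩
    obtain ⟨m, hm⟩ := hψaff h
    obtain ⟨n, hn⟩ := hψaff k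
    refine Subtype.ext (Equiv.ext fun z => e.injective ?_)
    show e (ψ h (ψ k z)) = e (ψ k (ψ h z))
    rw [hm, hn, hn, hm]
    ring
  have hψK : ∀ {h : S.H a b}, ψ h = 1 → t * (h : G) * t⁻¹ ∈ S.K a := fun {h} hh =>
    (S.mem_ker_blockPerm (φ h)).1 (MonoidHom.mem_ker.2 hh)
  have hψ1 : ∀ {h : S.H a b} {c}, S.R a b c → c ≠ b → (h : G) • c = c → ψ h = 1 := by
    intro h c hc hcb hfix
    have hRc : S.R b a (t • c) := by
      have := S.smul t hc
      rwa [hta, htb] at this
    have hca : t • c ≠ a := fun e => hcb ((smul_left_cancel_iff t).1 (e.trans htb.symm))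
    have hK : t * (h : G) * t⁻¹ ∈ S.K a := by
      refine S.mem_K_of_two ⟨e, he⟩ hp (htH' h.2).1 hab.symm hca (hY hRc hca) ?_ ?_
      · rw [(htH' h.2).2]; exact bR
      · rw [mul_smul, mul_smul, inv_smul_smul, hfix]; exact S.refl hca
    exact MonoidHom.mem_ker.1 ((S.mem_ker_blockPerm (φ h)).2 hK)
  letI : CommGroup ψ.range := { (inferInstance : Group ψ.range) with mul_comm := hcomm }
  set HL := (S.H a b).subgroupOf (S.L a b)
  let ψ' : HL →* ψ.range := ψ.rangeRestrict.comp (Subgroup.subgroupOfEquivOfLe S.H_le_L).toMonoidHom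
  let V : S.L a b →* ψ.range := MonoidHom.transfer ψ'
  have hV : ∀ g : HL, V g = ψ' g := by
    intro g
    set Q := Quotient (orbitRel (Subgroup.zpowers (g : S.L a b)) (S.L a b ⧸ HL))
    haveI : Fintype Q := Fintype.ofFinite _
    show MonoidHom.transfer ψ' _ = _
    rw [MonoidHom.transfer_eq_prod_quotient_orbitRel_zpowers_quot]
    set q₀ : Q := Quotient.mk'' ((1 : S.L a b) : S.L a b ⧸ HL)
    have hfix : (g : S.L a b) • ((1 : S.L a b) : S.L a b ⧸ HL) = ((1 : S.L a b) : S.L a b ⧸ HL) := by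
      show (((g : S.L a b) * 1 : S.L a b) : S.L a b ⧸ HL) = _
      exact (QuotientGroup.eq).2 (by simp)
    have hout : q₀.out = ((1 : S.L a b) : S.L a b ⧸ HL) := by
      have h := Quotient.mk_out (s := orbitRel (Subgroup.zpowers (g : S.L a b)) (S.L a b ⧸ HL))
        ((1 : S.L a b) : S.L a b ⧸ HL)
      obtain ⟨⟨k, n, rfl⟩, hk⟩ := h
      refine hk.symm.trans ?_
      show (g : S.L a b) ^ n • ((1 : S.L a b) : S.L a b ⧸ HL) = _
      exact mem_stabilizer_iff.1 ((stabilizer (S.L a b) _).zpow_mem (mem_stabilizer_iff.2 hfix) n)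
    have hs : q₀.out.out ∈ HL := by
      have h := (QuotientGroup.eq).1 (((QuotientGroup.out_eq' q₀.out).trans hout).symm)
      simpa using h
    rw [Finset.prod_eq_single q₀]
    · have hper : Function.minimalPeriod ((g : S.L a b) • ·) q₀.out = 1 := by
        rw [Function.minimalPeriod_eq_one_iff_isFixedPt]
        show (g : S.L a b) • q₀.out = q₀.out
        rw [hout]; exact hfix
      rw [show (⟨q₀.out.out⁻¹ * (g : S.L a b) ^ Function.minimalPeriod ((g : S.L a b) • ·) q₀.out *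
        q₀.out.out, _⟩ : HL) = (⟨q₀.out.out, hs⟩ : HL)⁻¹ * g * ⟨q₀.out.out, hs⟩ from
          Subtype.ext (by simp [hper]), map_mul, map_mul, map_inv, mul_comm, mul_inv_cancel_left]
    · intro q _ hq
      set s := q.out.out with hsdef
      have hsH : s ∉ HL := by
        intro hsH
        apply hq
        rw [← Quotient.out_eq' q, ← QuotientGroup.out_eq' q.out]
        exact congrArg Quotient.mk'' ((QuotientGroup.eq).2 (by simpa using HL.inv_mem hsH))
      have hcb : ((s⁻¹ : S.L a b) : G) • b ≠ b := by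
        intro h
        apply hsH
        refine Subgroup.mem_subgroupOf.2 (S.mem_H.2 ⟨s.2.1, ?_⟩)
        exact ((inv_smul_eq_iff).1 h).symm
      refine Subtype.ext (hψ1 (c := ((s⁻¹ : S.L a b) : G) • b) ((s⁻¹).2.2 b bR) hcb ?_)
      show ((s⁻¹ * (g : S.L a b) ^ Function.minimalPeriod ((g : S.L a b) • ·) q.out * s : S.L a b) : G) • _ = _
      simp only [Subgroup.coe_mul, Subgroup.coe_inv, SubgroupClass.coe_pow, mul_smul, smul_inv_smul]
      rw [show ((g : S.L a b) : G) ^ Function.minimalPeriod ((g : S.L a b) • ·) q.out • b = b from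
        mem_stabilizer_iff.1 ((stabilizer G b).pow_mem (mem_stabilizer_iff.2
          (Subgroup.mem_subgroupOf.1 g.2).2) _)]
    · intro h; exact absurd (Finset.mem_univ _) h
  -- the kernel of the transfer is two-transitive
  set W := V.ker
  set bsub : S.Pts a b := ⟨b, bR⟩
  have hWns : ¬ Group.IsSolvable W := by
    intro hW
    haveI := hW
    haveI : Group.IsSolvable ψ.range := Group.isSolvable_of_comm mul_comm
    exact hns (Group.isSolvable_of_ker_le_range W.subtype V (by simp [W]))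
  have hpL : p ∣ Nat.card (S.L a b) := by
    have h := Subgroup.index_dvd_card (stabilizer (S.L a b) bsub)
    rwa [index_stabilizer_of_transitive, S.card_Pts hab] at h
  obtain ⟨x, hx⟩ := exists_prime_orderOf_dvd_card' p hpL
  have hxW : x ∈ W := by
    rcases (Nat.dvd_prime hp).1 (hx ▸ orderOf_map_dvd V x) with h | h
    · exact orderOf_eq_one_iff.1 h
    · exact absurd ((h ▸ orderOf_dvd_natCard (V x)).trans (Subgroup.card_range_dvd ψ))
        (S.not_dvd_card_H hp hab)
  have hxb : x • bsub ≠ bsub := by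
    intro h
    have hxH : (x : G) ∈ S.H a b := S.mem_H.2 ⟨x.2.1, congrArg Subtype.val h⟩
    refine S.not_dvd_card_H hp hab ?_
    have e1 : orderOf (⟨(x : G), hxH⟩ : S.H a b) = p := by
      rw [Subgroup.orderOf_mk, Subgroup.orderOf_coe, hx]
    exact (dvd_of_eq e1.symm).trans (orderOf_dvd_natCard _)
  have horb : orbit (Subgroup.zpowers x) bsub = Set.univ := by
    refine Set.eq_of_subset_of_ncard_le (Set.subset_univ _) ?_
    rw [Set.ncard_univ, S.card_Pts hab, ← index_stabilizer]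
    have hd : (stabilizer (Subgroup.zpowers x) bsub).index ∣ p := by
      have h := Subgroup.index_dvd_card (stabilizer (Subgroup.zpowers x) bsub)
      rwa [Nat.card_zpowers, hx] at h
    rcases (Nat.dvd_prime hp).1 hd with h | h
    · rw [Subgroup.index_eq_one] at h
      have : (⟨x, Subgroup.mem_zpowers x⟩ : Subgroup.zpowers x) ∈ stabilizer (Subgroup.zpowers x) bsub := by
        rw [h]; exact Subgroup.mem_top _
      exact absurd this hxb
    · exact h.ge
  haveI : IsPretransitive W (S.Pts a b) := by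
    refine ⟨fun u v => ?_⟩
    obtain ⟨⟨i, hi⟩, hiu⟩ : u ∈ orbit (Subgroup.zpowers x) bsub := horb ▸ Set.mem_univ u
    obtain ⟨⟨j, hj⟩, hjv⟩ : v ∈ orbit (Subgroup.zpowers x) bsub := horb ▸ Set.mem_univ v
    have hle : Subgroup.zpowers x ≤ W := Subgroup.zpowers_le.2 hxW
    refine ⟨⟨j * i⁻¹, mul_mem (hle hj) (inv_mem (hle hi))⟩, ?_⟩
    show (j * i⁻¹) • u = v
    rw [← hiu, mul_smul]
    show j • i⁻¹ • i • bsub = v
    rw [inv_smul_smul]
    exact hjv
  have hW2 := (PrimeDegree.burnside (G := W) (S.card_Pts hab) hWns).1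
  rw [MulAction.is_two_pretransitive_iff] at hW2
  have htJ : ∀ {c d}, S.R a b c → c ≠ b → S.R a b d → d ≠ b →
      ∃ h ∈ S.H a b, h • c = d ∧ t * h * t⁻¹ ∈ S.K a := by
    intro c d hc hcb hd hdb
    obtain ⟨g, hg1, hg2⟩ := hW2 (a := bsub) (b := ⟨c, hc⟩) (c := bsub) (d := ⟨d, hd⟩)
      (fun e => hcb (congrArg Subtype.val e).symm) (fun e => hdb (congrArg Subtype.val e).symm)
    have hgH : ((g : S.L a b) : G) ∈ S.H a b :=
      S.mem_H.2 ⟨(g : S.L a b).2.1, congrArg Subtype.val hg1⟩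
    refine ⟨_, hgH, congrArg Subtype.val hg2, hψK (h := ⟨_, hgH⟩) ?_⟩
    have h := hV ⟨g, hgH⟩
    rw [show V (g : S.L a b) = 1 from g.2] at h
    exact (congrArg Subtype.val h).symm
  -- the other block of `b` lies in a single block
  have hYblk : ∀ {y}, S.R b a y → y ≠ a → S.R a y₀ y := by
    intro y hy hya
    obtain ⟨h, -, e, hK⟩ := htJ (htinv hy₀) (htinvne hy₀a) (htinv hy) (htinvne hya)
    have := hK.2 y₀ hy₀a
    rwa [mul_smul, mul_smul, e, smul_inv_smul] at this
  have hHK : ∀ {h}, h ∈ S.H a b → h ∈ S.K a := by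
    intro h hh
    refine S.mem_K_of_two ⟨e, he⟩ hp hh.1 hab.symm hy₀a hy₀X (by rw [hh.2]; exact bR) ?_
    refine hYblk ?_ (smul_ne hh.1 hy₀a)
    exact S.R_smul_H (S.H_comm a b ▸ hh) hy₀
  -- the remaining point of that block
  have hZ : ({w | S.R a y₀ w} \ ({w | S.R b a w} \ {a})).ncard = 1 := by
    rw [Set.ncard_sdiff (s := {w | S.R b a w} \ {a}) (t := {w | S.R a y₀ w})
        (fun w hw => hYblk hw.1 hw.2), S.card_block hy₀a,
      Set.ncard_sdiff (s := {a}) (t := {w | S.R b a w}) (Set.singleton_subset_iff.2 (S.refl hab)),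
      S.card_block hab, Set.ncard_singleton]
    omega
  obtain ⟨m, hm⟩ := Set.ncard_eq_one.1 hZ
  have hmR : S.R a y₀ m := (hm.symm ▸ Set.mem_singleton m :
    m ∈ {w | S.R a y₀ w} \ ({w | S.R b a w} \ {a})).1
  have hmY : ¬ (S.R b a m ∧ m ≠ a) := (hm.symm ▸ Set.mem_singleton m :
    m ∈ {w | S.R a y₀ w} \ ({w | S.R b a w} \ {a})).2
  have hma : m ≠ a := S.R_ne hmR
  have hHm : S.H a b = S.H a m := by
    refine Subgroup.eq_of_le_of_card_ge (fun h hh => S.mem_H.2 ⟨hh.1, ?_⟩) (S.card_H hma.symm hab).le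
    have h1 : h • m ∈ {w | S.R a y₀ w} \ ({w | S.R b a w} \ {a}) := by
      refine ⟨S.trans hmR ((hHK hh).2 m hma), fun hmem => hmY ⟨?_, hma⟩⟩
      have := S.R_smul_H (S.H_comm a b ▸ (S.H a b).inv_mem hh) hmem.1
      rwa [inv_smul_smul] at this
    rw [hm] at h1
    exact h1
  have hCm : S.K a ⊓ stabilizer G m = S.K a ⊓ stabilizer G b := by
    refine le_antisymm (fun g hg => ⟨hg.1, ?_⟩) (fun g hg => ⟨hg.1, ?_⟩)
    · have h : g ∈ S.H a b := S.mem_H.2 ⟨hg.1.1, hg.2⟩
      rw [hHm] at h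
      exact h.2
    · have h : g ∈ S.H a m := S.mem_H.2 ⟨hg.1.1, hg.2⟩
      rw [← hHm] at h
      exact h.2
  have hsub : ∀ {u v}, u ≠ a → v ≠ a → S.K a ⊓ stabilizer G u = S.K a ⊓ stabilizer G v →
      S.classOf a u ⊆ S.classOf a v := by
    rintro u v hu hv huv C ⟨w, hw, rfl⟩
    obtain ⟨k, hk, rfl⟩ := S.exists_K_smul hp hw
    refine ⟨k • v, hk.2 v hv, ?_⟩
    rw [S.K_inf_stab_smul hk.1, S.K_inf_stab_smul hk.1, huv]
  have hmX : ¬ S.R a b m := fun h => hy₀X (S.trans h (S.symm hmR))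
  have hcls : S.classOf a b = S.classOf a m :=
    Set.Subset.antisymm (hsub hab.symm hma hCm.symm) (hsub hma hab.symm hCm)
  set M : Ω → Ω → Set Ω := fun u v => {x | ∀ h ∈ S.H u v, h • x = x}
  have hex : ∀ z, z ≠ a → ∃ w, S.R a z w ∧ w ∈ M a b := by
    intro z hz
    have h := S.classOf_all hp hab.symm hma hmX hcls hz
    have hb : S.K a ⊓ stabilizer G b ∈ S.classOf a z := h.symm ▸ ⟨b, bR, rfl⟩
    obtain ⟨w, hw, hwe⟩ := hb
    refine ⟨w, hw, fun g hg => ?_⟩
    exact (hwe ▸ ⟨hHK hg, hg.2⟩ : g ∈ S.K a ⊓ stabilizer G w).2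
  have hone : ∀ {w w'}, S.R a w w' → w ∈ M a b → w' ∈ M a b → w = w' := by
    intro w w' hR hw hw'
    by_contra hne
    have hwa : w ≠ a := S.ne_left hR
    have hHw : S.H a b = S.H a w := Subgroup.eq_of_le_of_card_ge
      (fun h hh => S.mem_H.2 ⟨hh.1, hw h hh⟩) (S.card_H hwa.symm hab).le
    obtain ⟨k, hk1, hk2⟩ := S.exists_stab hab.symm hwa
    have hsub : {x | S.R a w x} ⊆ {w, w'} := by
      intro x hx
      rcases eq_or_ne x w with rfl | hxw
      · exact Or.inl rfl
      right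
      have hk1' : k⁻¹ • a = a := by rw [inv_smul_eq_iff, hk1]
      have hpre : ∀ {y}, S.R a w y → S.R a b (k⁻¹ • y) := fun {y} hy =>
        (S.R_smul_iff k).1 (by rw [hk1, hk2, smul_inv_smul]; exact hy)
      obtain ⟨h, hh, e⟩ := htH (hpre hR) (fun e => hne (by rw [inv_smul_eq_iff, hk2] at e; exact e.symm))
        (hpre hx) (fun e => hxw (by rw [inv_smul_eq_iff, hk2] at e; exact e))
      have hc := (S.conj_mem_H (k := k)).2 hh
      rw [hk1, hk2, ← hHw] at hc
      have := hw' _ hc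
      rw [mul_smul, mul_smul, e, smul_inv_smul] at this
      exact this
    have h1 := (Set.ncard_le_ncard hsub).trans (Set.ncard_pair hne).le
    rw [S.card_block hwa] at h1
    omega
  haveI : Finite (S.Blk a) := Subtype.finite
  have hMcard : (M a b).ncard = p + 1 := by
    have haM : a ∈ M a b := fun h hh => hh.1
    let f : (M a b \ {a} : Set Ω) → S.Blk a := fun x => ⟨S.blk a x, x, x.2.2, rfl⟩
    have hf : Function.Bijective f := by
      constructor
      · intro x y h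
        exact Subtype.ext (hone ((S.blk_eq_iff y.2.2).1 (congrArg Subtype.val h)) x.2.1 y.2.1)
      · rintro ⟨_, z, hz, rfl⟩
        obtain ⟨w, hw, hwM⟩ := hex z hz
        exact ⟨⟨w, hwM, S.R_ne hw⟩, Subtype.ext (S.block_eq hw)⟩
    rw [← Set.ncard_sdiff_singleton_add_one haM, ← Nat.card_coe_set_eq,
      Nat.card_congr (Equiv.ofBijective f hf), S.card_Blk hp]
  refine no_steiner S hp.two_le M (fun {u v} huv => ?_) (fun {u v} _ => ⟨fun h hh => hh.1, fun h hh => hh.2⟩)
    (fun {u v x y} huv hxy hx hy => ?_)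
  · obtain ⟨k, rfl, rfl⟩ := S.two_trans hab huv
    rw [← hMcard]
    have himg : M (k • a) (k • b) = (k • ·) '' M a b := by
      ext x
      constructor
      · intro hx
        refine ⟨k⁻¹ • x, fun h hh => ?_, smul_inv_smul k x⟩
        have := hx _ ((S.conj_mem_H (k := k)).2 hh)
        rw [mul_smul, mul_smul] at this
        rw [eq_inv_smul_iff]
        exact this
      · rintro ⟨x, hx, rfl⟩ h hh
        have hh' : k⁻¹ * h * k ∈ S.H a b := (S.conj_mem_H (k := k)).1 (by
          rwa [show k * (k⁻¹ * h * k) * k⁻¹ = h by group])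
        have := hx _ hh'
        rw [mul_smul, mul_smul, inv_smul_eq_iff] at this
        exact this
    rw [himg, Set.ncard_image_of_injective _ (MulAction.injective k)]
  · have hH : S.H u v = S.H x y := Subgroup.eq_of_le_of_card_ge
      (fun h hh => S.mem_H.2 ⟨hx h hh, hy h hh⟩) (S.card_H hxy huv).le
    show {z | ∀ h ∈ S.H x y, h • z = z} = {z | ∀ h ∈ S.H u v, h • z = z}
    rw [hH]

/-- The stabilizer of a block is affine on it. -/
theorem exists_affine (hp : p.Prime) {a b : Ω} (hab : a ≠ b) :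
    ∃ e : S.Pts a b ≃ ZMod p, ∀ g : S.L a b, ∃ m c : ZMod p, ∀ x, e (g • x) = m * e x + c := by
  rcases S.blocks_dichotomy hp a with haff | htr
  · haveI := Fact.mk hp
    haveI := S.lAct_faithful hp hab
    haveI := S.lAct_pretransitive hp a b
    exact PrimeDegree.affine_of_solvable (S.card_Pts hab) (S.solvable_of_affine_blocks hp hab haff)
  · refine S.exists_affine_of_inf hp hab ?_
    rw [Subgroup.eq_bot_iff_forall]
    intro g hg
    have hgH : g ∈ S.H b a := S.mem_H.2 ⟨hg.2, hg.1.1⟩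
    have h1 : g ∈ S.K1 b a := by
      refine ⟨hg.2, fun y hy => ?_⟩
      rcases eq_or_ne y a with rfl | hya
      · exact hg.1.1
      · exact ((S.meets_once hp hab htr).2.1 y (g • y) hy hya (S.R_smul_H hgH hy)
          (smul_ne hg.1.1 hya) (hg.1.2 y hya)).symm
    rwa [S.K1_eq_bot hp hab.symm, Subgroup.mem_bot] at h1

/-- An element fixing two points of a block and its centre is trivial. -/
theorem eq_one_of_two_in_block (hp : p.Prime) {u v w : Ω} {g : G} (hg : g ∈ S.H u v)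
    (hR : S.R u v w) (hne : w ≠ v) (hw : g • w = w) : g = 1 := by
  haveI := Fact.mk hp
  have huv : u ≠ v := (S.ne_left hR).symm
  obtain ⟨e, he⟩ := S.exists_affine hp huv
  obtain ⟨m, c, hmc⟩ := he ⟨g, S.H_le_L hg⟩
  have hv' : (⟨g, S.H_le_L hg⟩ : S.L u v) • (⟨v, S.refl huv.symm⟩ : S.Pts u v) = ⟨v, S.refl huv.symm⟩ :=
    Subtype.ext hg.2
  have hw' : (⟨g, S.H_le_L hg⟩ : S.L u v) • (⟨w, hR⟩ : S.Pts u v) = ⟨w, hR⟩ := Subtype.ext hw
  have e1 := hmc ⟨v, S.refl huv.symm⟩
  have e2 := hmc ⟨w, hR⟩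
  rw [hv'] at e1
  rw [hw'] at e2
  have hd : e ⟨w, hR⟩ - e ⟨v, S.refl huv.symm⟩ ≠ 0 := fun h =>
    hne (congrArg Subtype.val (e.injective (sub_eq_zero.1 h)))
  have hm : m = 1 := by
    have h : (m - 1) * (e ⟨w, hR⟩ - e ⟨v, S.refl huv.symm⟩) = 0 := by linear_combination e1 - e2
    exact sub_eq_zero.1 ((mul_eq_zero.1 h).resolve_right hd)
  have hc : c = 0 := by rw [hm, one_mul] at e1; linear_combination -e1
  have hK1 : g ∈ S.K1 u v := ⟨hg.1, fun x hx => by
    have h := hmc ⟨x, hx⟩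
    rw [hm, hc, one_mul, add_zero] at h
    exact congrArg Subtype.val (e.injective h)⟩
  rwa [S.K1_eq_bot hp huv, Subgroup.mem_bot] at hK1

/-- A two-point stabilizer has at most one involution. -/
theorem involution_unique (hp : p.Prime) {u v : Ω} (huv : u ≠ v) {g g' : G} (hg : g ∈ S.H u v)
    (hg' : g' ∈ S.H u v) (h1 : g ≠ 1) (h1' : g' ≠ 1) (hsq : g * g = 1) (hsq' : g' * g' = 1) :
    g = g' := by
  haveI := Fact.mk hp
  obtain ⟨w, hw, hwv⟩ := Set.exists_ne_of_one_lt_ncard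
    (by rw [S.card_block huv.symm]; exact hp.one_lt : 1 < {w | S.R u v w}.ncard) v
  obtain ⟨e, he⟩ := S.exists_affine hp huv
  set vs : S.Pts u v := ⟨v, S.refl huv.symm⟩
  set ws : S.Pts u v := ⟨w, hw⟩
  -- each involution sends `ws` to its opposite
  have key : ∀ {h : G} (hh : h ∈ S.H u v), h ≠ 1 → h * h = 1 →
      e ((⟨h, S.H_le_L hh⟩ : S.L u v) • ws) = 2 * e vs - e ws := by
    intro h hh hne hsq
    obtain ⟨m, c, hmc⟩ := he ⟨h, S.H_le_L hh⟩
    have e1 := hmc vs
    rw [show (⟨h, S.H_le_L hh⟩ : S.L u v) • vs = vs from Subtype.ext hh.2] at e1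
    have e2 := hmc ws
    have e3 := hmc ((⟨h, S.H_le_L hh⟩ : S.L u v) • ws)
    rw [smul_smul, show (⟨h, S.H_le_L hh⟩ : S.L u v) * ⟨h, S.H_le_L hh⟩ = 1 from Subtype.ext hsq,
      one_smul, e2] at e3
    have hd : e ws - e vs ≠ 0 := fun h0 =>
      hwv (congrArg Subtype.val (e.injective (sub_eq_zero.1 h0)))
    have hm2 : (m - 1) * (m + 1) = 0 := by
      have h0 : ((m - 1) * (m + 1)) * (e ws - e vs) = 0 := by linear_combination -e3 + (1 + m) * e1
      exact (mul_eq_zero.1 h0).resolve_right hd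
    rcases mul_eq_zero.1 hm2 with h0 | h0
    · exfalso
      rw [sub_eq_zero] at h0
      refine hne (S.eq_one_of_two_in_block hp hh hw hwv (congrArg Subtype.val
        (e.injective (a₁ := (⟨h, S.H_le_L hh⟩ : S.L u v) • ws) (a₂ := ws) ?_)))
      rw [e2]
      linear_combination -e1 + (e ws - e vs) * h0
    · rw [e2]
      linear_combination -e1 + (e ws - e vs) * h0
  have hh : g'⁻¹ * g ∈ S.H u v := (S.H u v).mul_mem ((S.H u v).inv_mem hg') hg
  have := S.eq_one_of_two_in_block hp hh hw hwv (by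
    rw [mul_smul, inv_smul_eq_iff]
    exact congrArg Subtype.val (e.injective ((key hg h1 hsq).trans (key hg' h1' hsq').symm)))
  exact (inv_mul_eq_one.1 this).symm

/-- The order of a two-point stabilizer is at most `p - 1`. -/
theorem card_H_le (hp : p.Prime) {u v : Ω} (huv : u ≠ v) : Nat.card (S.H u v) ≤ p - 1 := by
  obtain ⟨w, hw, hwv⟩ := Set.exists_ne_of_one_lt_ncard
    (by rw [S.card_block huv.symm]; exact hp.one_lt : 1 < {w | S.R u v w}.ncard) v
  let f : S.H u v → ({x | S.R u v x} \ {v} : Set Ω) := fun g => ⟨(g : G) • w,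
    S.R_smul_H g.2 hw, fun h => hwv ((smul_left_cancel_iff (g : G)).1 (h.trans g.2.2.symm))⟩
  have hinj : Function.Injective f := by
    intro g g' h
    have h' : (g : G) • w = (g' : G) • w := congrArg Subtype.val h
    have := S.eq_one_of_two_in_block hp (g'⁻¹ * g).2 hw hwv (by
      show ((g' : G)⁻¹ * (g : G)) • w = w
      rw [mul_smul, h', inv_smul_smul])
    exact (inv_mul_eq_one.1 (Subtype.ext this)).symm
  refine (Nat.card_le_card_of_injective f hinj).trans ?_
  rw [Nat.card_coe_set_eq, Set.ncard_sdiff (s := {v}) (t := {x | S.R u v x})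
    (Set.singleton_subset_iff.2 (S.refl huv.symm)), S.card_block huv.symm, Set.ncard_singleton]

end Sys

end Cfsg.Agent.Lib.DoublyPrimitive55
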