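import Mathlib

/-!
# Two-transitive groups of degree `p² + 1` whose point stabilizer has blocks of size `p`

The system of blocks is given as a ternary relation: `R u v w` says that `v` and `w` lie in the
same block of the stabilizer of `u`.
-/

set_option autoImplicit false

namespace Cfsg.Agent.Lib.DoublyPrimitive55

open MulAction

/-- A two-transitive group of degree `p² + 1` with an equivariant system of blocks of size `p`. -/
structure Sys (G Ω : Type*) [Group G] [MulAction G Ω] (p : ℕ) where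
  R : Ω → Ω → Ω → Prop
  ne_left : ∀ {u v w : Ω}, R u v w → v ≠ u
  refl : ∀ {u v : Ω}, v ≠ u → R u v v
  symm : ∀ {u v w : Ω}, R u v w → R u w v
  trans : ∀ {u v w x : Ω}, R u v w → R u w x → R u v x
  smul : ∀ {u v w : Ω} (g : G), R u v w → R (g • u) (g • v) (g • w)
  card_block : ∀ {u v : Ω}, v ≠ u → {w | R u v w}.ncard = p
  card_univ : Nat.card Ω = p ^ 2 + 1
  two_trans : ∀ {a b c d : Ω}, a ≠ b → c ≠ d → ∃ g : G, g • a = c ∧ g • b = d

variable {G Ω : Type*} [Group G] [Finite G] [MulAction G Ω] [FaithfulSMul G Ω] [Finite Ω]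
  {p : ℕ} (S : Sys G Ω p)

omit [Finite G] [FaithfulSMul G Ω] in
/-- There is no assignment to pairs of points of `(p+1)`-sets in which any two points lie once. -/
theorem no_steiner (S : Sys G Ω p) (hp : 2 ≤ p) (M : Ω → Ω → Set Ω)
    (hcard : ∀ {u v : Ω}, u ≠ v → (M u v).ncard = p + 1)
    (hmem : ∀ {u v : Ω}, u ≠ v → u ∈ M u v ∧ v ∈ M u v)
    (huniq : ∀ {u v x y : Ω}, u ≠ v → x ≠ y → x ∈ M u v → y ∈ M u v → M x y = M u v) : False := by
  classical
  haveI := Fintype.ofFinite Ω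
  set pairs := (Finset.univ : Finset Ω).offDiag
  set img := pairs.image fun q => M q.1 q.2
  have hfib : ∀ s ∈ img, (pairs.filter fun q => M q.1 q.2 = s).card = (p + 1) * p := by
    intro s hs
    obtain ⟨⟨u, v⟩, huv, rfl⟩ := Finset.mem_image.1 hs
    replace huv : u ≠ v := by simpa [pairs] using huv
    have : (pairs.filter fun q => M q.1 q.2 = M u v) = (M u v).toFinset.offDiag := by
      ext ⟨x, y⟩
      simp only [pairs, Finset.mem_filter, Finset.mem_offDiag, Finset.mem_univ, true_and,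
        Set.mem_toFinset]
      constructor
      · rintro ⟨hxy, he⟩
        exact ⟨he ▸ (hmem hxy).1, he ▸ (hmem hxy).2, hxy⟩
      · rintro ⟨hx, hy, hxy⟩
        exact ⟨hxy, huniq huv hxy hx hy⟩
    rw [this, Finset.offDiag_card, ← Set.ncard_eq_toFinset_card' , hcard huv]
    rw [Nat.mul_succ, Nat.add_sub_cancel]
  have htot : pairs.card = img.card * ((p + 1) * p) := by
    rw [Finset.card_eq_sum_card_image (fun q => M q.1 q.2), Finset.sum_congr rfl hfib,
      Finset.sum_const, smul_eq_mul]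
  have hp' : pairs.card = (p ^ 2 + 1) * p ^ 2 := by
    simp only [pairs, Finset.offDiag_card, Finset.card_univ, ← Nat.card_eq_fintype_card, S.card_univ]
    rw [show (p ^ 2 + 1) * (p ^ 2 + 1) = (p ^ 2 + 1) * p ^ 2 + (p ^ 2 + 1) by ring,
      Nat.add_sub_cancel]
  rw [hp'] at htot
  have h1 : (p ^ 2 + 1) * p = img.card * (p + 1) := by
    apply Nat.eq_of_mul_eq_mul_right (show 0 < p by omega)
    linarith
  have h2 : p + 1 ∣ (p ^ 2 + 1) * p := ⟨img.card, by rw [h1, mul_comm]⟩
  have h3 : ((p : ℤ) + 1) ∣ 2 := by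
    have h4 : ((p : ℤ) + 1) ∣ ((p : ℤ) ^ 2 + 1) * p := by exact_mod_cast h2
    have h5 : ((p : ℤ) + 1) ∣ ((p : ℤ) + 1) * ((p : ℤ) ^ 2 - p + 2) := Dvd.intro _ rfl
    have := Int.dvd_sub h5 h4
    rwa [show ((p : ℤ) + 1) * ((p : ℤ) ^ 2 - p + 2) - ((p : ℤ) ^ 2 + 1) * p = 2 by ring] at this
  have := Int.le_of_dvd (by norm_num) h3
  omega

namespace Sys

/-- The block of `v` for the stabilizer of `u`, with `u` added. -/
def B (u v : Ω) : Set Ω := insert u {w | S.R u v w}

omit [Finite G] [FaithfulSMul G Ω] [Finite Ω] in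
theorem R_ne {u v w : Ω} (h : S.R u v w) : w ≠ u := S.ne_left (S.symm h)

omit [Finite G] [FaithfulSMul G Ω] [Finite Ω] in
theorem R_smul_iff {u v w : Ω} (g : G) : S.R (g • u) (g • v) (g • w) ↔ S.R u v w :=
  ⟨fun h => by simpa using S.smul g⁻¹ h, S.smul g⟩

omit [Finite G] [FaithfulSMul G Ω] [Finite Ω] in
theorem block_eq {u v w : Ω} (h : S.R u v w) : {x | S.R u w x} = {x | S.R u v x} :=
  Set.ext fun _ => ⟨S.trans h, S.trans (S.symm h)⟩

omit [Finite G] [FaithfulSMul G Ω] in
theorem B_card {u v : Ω} (h : v ≠ u) : (S.B u v).ncard = p + 1 := by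
  rw [B, Set.ncard_insert_of_notMem (s := {w | S.R u v w}) (fun h' => S.R_ne h' rfl), S.card_block h]

omit [Finite G] [FaithfulSMul G Ω] [Finite Ω] in
theorem smul_B_eq {u v : Ω} (g : G) : (g • ·) '' S.B u v = S.B (g • u) (g • v) := by
  ext x
  constructor
  · rintro ⟨y, rfl | hy, rfl⟩
    · exact Or.inl rfl
    · exact Or.inr (S.smul g hy)
  · rintro (rfl | hx)
    · exact ⟨u, Or.inl rfl, rfl⟩
    · refine ⟨g⁻¹ • x, Or.inr ((S.R_smul_iff g).1 ?_), smul_inv_smul g x⟩
      rwa [smul_inv_smul]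

omit [Finite G] [FaithfulSMul G Ω] in
/-- The centre of a block is determined by the set. -/
theorem centre_unique (hp : 2 ≤ p) {u v u' v' : Ω} (huv : v ≠ u) (huv' : v' ≠ u')
    (he : S.B u v = S.B u' v') : u = u' := by
  by_contra hne
  -- every point of the set is a centre
  have key : ∀ w ∈ S.B u v, ∀ x ∈ S.B u v, w ≠ x → S.B w x = S.B u v := by
    have hu' : S.R u v u' := by
      have : u' ∈ S.B u v := he ▸ Set.mem_insert _ _
      exact this.resolve_left (Ne.symm hne)
    have hcentre : ∀ w ∈ S.B u v, ∃ x₀, x₀ ≠ w ∧ S.B w x₀ = S.B u v := by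
      rintro w (rfl | hw)
      · exact ⟨v, huv, rfl⟩
      obtain ⟨k, hk1, hk2⟩ := S.two_trans (Ne.symm (S.R_ne hu')) (Ne.symm (S.R_ne hw))
      have hkv : S.R u v (k • v) := by
        have h := S.smul k hu'
        rw [hk1, hk2] at h
        exact S.trans hw (S.symm h)
      have hBk : (k • ·) '' S.B u v = S.B u v := by
        rw [S.smul_B_eq, hk1, B, B, S.block_eq hkv]
      refine ⟨k • v', fun h => huv' (by simpa using (h.trans hk2.symm)), ?_⟩
      rw [← hk2, ← S.smul_B_eq, ← he, hBk]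
    intro w hw x hx hwx
    obtain ⟨x₀, -, hB⟩ := hcentre w hw
    have hx' : S.R w x₀ x := (hB.symm ▸ hx : x ∈ S.B w x₀).resolve_left (Ne.symm hwx)
    rw [← hB, B, B, S.block_eq hx']
  refine no_steiner S hp (fun x y => S.B x y) (fun h => S.B_card h.symm)
    (fun h => ⟨Set.mem_insert _ _, Or.inr (S.refl h.symm)⟩) ?_
  intro x y w z hxy hwz hw hz
  obtain ⟨g, hg1, hg2⟩ := S.two_trans huv.symm hxy
  show S.B w z = S.B x y
  rw [← hg1, ← hg2, ← S.smul_B_eq] at hw hz ⊢
  obtain ⟨w', hw', rfl⟩ := hw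
  obtain ⟨z', hz', rfl⟩ := hz
  rw [← key w' hw' z' hz' (fun h => hwz (by rw [h]))]
  exact (S.smul_B_eq g).symm

/-- The stabilizer of two points. -/
def H (_S : Sys G Ω p) (u v : Ω) : Subgroup G := stabilizer G u ⊓ stabilizer G v

omit [Finite G] [FaithfulSMul G Ω] [Finite Ω] in
theorem mem_H {u v : Ω} {g : G} : g ∈ S.H u v ↔ g • u = u ∧ g • v = v := Iff.rfl

omit [Finite G] [FaithfulSMul G Ω] [Finite Ω] in
theorem H_comm (u v : Ω) : S.H u v = S.H v u := inf_comm _ _

/-- The kernel of the action of the stabilizer of `u` on its blocks. -/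
def K (u : Ω) : Subgroup G where
  carrier := {g | g • u = u ∧ ∀ v, v ≠ u → S.R u v (g • v)}
  one_mem' := ⟨one_smul G u, fun v hv => by rw [one_smul]; exact S.refl hv⟩
  mul_mem' := by
    rintro g h ⟨hg, hgR⟩ ⟨hh, hhR⟩
    refine ⟨by rw [mul_smul, hh, hg], fun v hv => ?_⟩
    rw [mul_smul]
    exact S.trans (hhR v hv) (hgR _ (fun e => hv (by rw [← smul_left_cancel_iff h, e, hh])))
  inv_mem' := by
    rintro g ⟨hg, hgR⟩
    refine ⟨by rw [inv_smul_eq_iff, hg], fun v hv => ?_⟩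
    have h := hgR (g⁻¹ • v) (fun e => hv (by rw [inv_smul_eq_iff, hg] at e; exact e))
    rw [smul_inv_smul] at h
    exact S.symm h

/-- The elements fixing the block of `v` pointwise. -/
def K1 (u v : Ω) : Subgroup G where
  carrier := {g | g • u = u ∧ ∀ w, S.R u v w → g • w = w}
  one_mem' := ⟨one_smul G u, fun w _ => one_smul G w⟩
  mul_mem' := by
    rintro g h ⟨hg, hgR⟩ ⟨hh, hhR⟩
    exact ⟨by rw [mul_smul, hh, hg], fun w hw => by rw [mul_smul, hhR w hw, hgR w hw]⟩
  inv_mem' := by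
    rintro g ⟨hg, hgR⟩
    exact ⟨by rw [inv_smul_eq_iff, hg], fun w hw => by rw [inv_smul_eq_iff, hgR w hw]⟩

omit [Finite G] [FaithfulSMul G Ω] [Finite Ω] in
theorem K_le (u : Ω) : S.K u ≤ stabilizer G u := fun _ h => h.1

omit [Finite G] [FaithfulSMul G Ω] [Finite Ω] in
theorem K1_le {u v : Ω} (h : v ≠ u) : S.K1 u v ≤ S.H u v := fun _ hg => ⟨hg.1, hg.2 v (S.refl h)⟩

omit [Finite G] [FaithfulSMul G Ω] [Finite Ω] in
theorem conj_mem_H {u v : Ω} {g k : G} :
    k * g * k⁻¹ ∈ S.H (k • u) (k • v) ↔ g ∈ S.H u v := by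
  simp [mem_H, mul_smul]

omit [Finite G] [FaithfulSMul G Ω] [Finite Ω] in
theorem conj_mem_K {u : Ω} {g k : G} : k * g * k⁻¹ ∈ S.K (k • u) ↔ g ∈ S.K u := by
  constructor
  · rintro ⟨h1, h2⟩
    refine ⟨by simpa [mul_smul] using h1, fun v hv => ?_⟩
    have h := h2 (k • v) (by simpa using hv)
    simp only [mul_smul, inv_smul_smul] at h
    exact (S.R_smul_iff k).1 h
  · rintro ⟨h1, h2⟩
    refine ⟨by simp [mul_smul, h1], fun v hv => ?_⟩
    have h := S.smul k (h2 (k⁻¹ • v) fun e => hv (by rw [inv_smul_eq_iff] at e; exact e))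
    simpa [mul_smul] using h

omit [Finite G] [FaithfulSMul G Ω] [Finite Ω] in
theorem conj_mem_K1 {u v : Ω} {g k : G} :
    k * g * k⁻¹ ∈ S.K1 (k • u) (k • v) ↔ g ∈ S.K1 u v := by
  constructor
  · rintro ⟨h1, h2⟩
    refine ⟨by simpa [mul_smul] using h1, fun w hw => ?_⟩
    simpa [mul_smul] using h2 (k • w) (S.smul k hw)
  · rintro ⟨h1, h2⟩
    refine ⟨by simp [mul_smul, h1], fun w hw => ?_⟩
    have hw' : S.R u v (k⁻¹ • w) := (S.R_smul_iff k).1 (by rwa [smul_inv_smul])
    simp [mul_smul, h2 _ hw']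

omit [Finite G] [FaithfulSMul G Ω] [Finite Ω] in
theorem K1_congr {u v v' : Ω} (h : S.R u v v') : S.K1 u v = S.K1 u v' :=
  Subgroup.ext fun _ =>
    ⟨fun hg => ⟨hg.1, fun w hw => hg.2 w (S.trans h hw)⟩,
      fun hg => ⟨hg.1, fun w hw => hg.2 w (S.trans (S.symm h) hw)⟩⟩

omit [Finite G] [FaithfulSMul G Ω] [Finite Ω] in
theorem card_H {a b c d : Ω} (hab : a ≠ b) (hcd : c ≠ d) :
    Nat.card (S.H a b) = Nat.card (S.H c d) := by
  obtain ⟨k, rfl, rfl⟩ := S.two_trans hab hcd
  exact Nat.card_congr ((MulAut.conj k).toEquiv.subtypeEquiv fun g => (S.conj_mem_H).symm)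

omit [Finite G] [FaithfulSMul G Ω] [Finite Ω] in
theorem card_K1 {a b c d : Ω} (hab : a ≠ b) (hcd : c ≠ d) :
    Nat.card (S.K1 a b) = Nat.card (S.K1 c d) := by
  obtain ⟨k, rfl, rfl⟩ := S.two_trans hab hcd
  exact Nat.card_congr ((MulAut.conj k).toEquiv.subtypeEquiv fun g => (S.conj_mem_K1).symm)

omit [Finite G] [FaithfulSMul G Ω] [Finite Ω] in
theorem exists_stab (S : Sys G Ω p) {u v w : Ω} (hv : v ≠ u) (hw : w ≠ u) : ∃ k : G, k • u = u ∧ k • v = w :=
  S.two_trans hv.symm hw.symm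

omit [Finite G] [FaithfulSMul G Ω] in
/-- An equivariant function on the blocks of `u` is injective or constant. -/
theorem fun_blocks (hp : p.Prime) {u : Ω} {β : Type*} (φ : Ω → β)
    (hR : ∀ {v w}, S.R u v w → φ v = φ w)
    (hinv : ∀ (k : G) {v w}, k • u = u → v ≠ u → w ≠ u → φ v = φ w → φ (k • v) = φ (k • w))
    {v w : Ω} (hv : v ≠ u) (hw : w ≠ u) (hne : ¬ S.R u v w) (he : φ v = φ w) :
    ∀ x, x ≠ u → φ x = φ v := by
  classical
  haveI := Fintype.ofFinite Ω
  intro x hx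
  set T := Finset.univ.filter fun y : Ω => y ≠ u
  have hT : T.card = p ^ 2 := by
    have : T = Finset.univ.erase u := by ext y; simp [T]
    rw [this, Finset.card_erase_of_mem (Finset.mem_univ u), Finset.card_univ, ← Nat.card_eq_fintype_card,
      S.card_univ]
    rfl
  set c := (T.filter fun y => φ y = φ v).card
  have hfib : ∀ s ∈ T.image φ, (T.filter fun y => φ y = s).card = c := by
    intro s hs
    obtain ⟨y, hy, rfl⟩ := Finset.mem_image.1 hs
    replace hy : y ≠ u := by simpa [T] using hy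
    obtain ⟨k, hk1, hk2⟩ := S.exists_stab hv hy
    refine (Finset.card_bij (fun z _ => k • z) ?_ (fun _ _ _ _ h => (smul_left_cancel_iff k).1 h) ?_).symm
    · intro z hz
      simp only [T, Finset.mem_filter, Finset.mem_univ, true_and] at hz ⊢
      refine ⟨fun h => hz.1 (by rw [← smul_left_cancel_iff k, h, hk1]), ?_⟩
      rw [hinv k hk1 hz.1 hv hz.2, hk2]
    · intro z hz
      simp only [T, Finset.mem_filter, Finset.mem_univ, true_and] at hz
      have hk1' : k⁻¹ • u = u := by rw [inv_smul_eq_iff, hk1]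
      refine ⟨k⁻¹ • z, ?_, smul_inv_smul k z⟩
      simp only [T, Finset.mem_filter, Finset.mem_univ, true_and]
      refine ⟨fun h => hz.1 (by rw [inv_smul_eq_iff, hk1] at h; exact h), ?_⟩
      have := hinv k⁻¹ hk1' hz.1 hy hz.2
      rwa [inv_smul_eq_iff.2 hk2.symm] at this
  have hdvd : c ∣ p ^ 2 := by
    rw [← hT, Finset.card_eq_sum_card_image φ T, Finset.sum_congr rfl hfib, Finset.sum_const,
      smul_eq_mul]
    exact dvd_mul_left _ _
  have hlt : p < c := by
    have h1 : insert w (T.filter fun y => S.R u v y) ⊆ T.filter fun y => φ y = φ v := by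
      intro y hy
      simp only [T, Finset.mem_insert, Finset.mem_filter, Finset.mem_univ, true_and] at hy ⊢
      rcases hy with rfl | ⟨hy1, hy2⟩
      · exact ⟨hw, he.symm⟩
      · exact ⟨hy1, (hR hy2).symm⟩
    have h2 := Finset.card_le_card h1
    rw [Finset.card_insert_of_notMem (by simp [hne])] at h2
    have h3 : (T.filter fun y => S.R u v y).card = p := by
      refine Eq.trans ?_ (S.card_block hv)
      rw [Set.ncard_eq_toFinset_card']
      congr 1
      ext y
      simp only [T, Finset.mem_filter, Finset.mem_univ, true_and, Set.mem_toFinset, Set.mem_setOf_eq]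
      exact ⟨fun h => h.2, fun h => ⟨S.R_ne h, h⟩⟩
    omega
  have hc : c = p ^ 2 := by
    obtain ⟨i, hi, hci⟩ := (Nat.dvd_prime_pow hp).1 hdvd
    interval_cases i
    · rw [pow_zero] at hci; have := hp.two_le; omega
    · rw [pow_one] at hci; omega
    · exact hci
  have : T.filter (fun y => φ y = φ v) = T :=
    Finset.eq_of_subset_of_card_le (Finset.filter_subset _ _) (by rw [hT]; omega)
  have hxT : x ∈ T.filter (fun y => φ y = φ v) := this.symm ▸ (by simp [T, hx])
  exact (Finset.mem_filter.1 hxT).2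

omit [Finite Ω] in
theorem eq_one_of_fix (_S : Sys G Ω p) {g : G} {u : Ω} (hu : g • u = u) (h : ∀ x, x ≠ u → g • x = x) : g = 1 :=
  FaithfulSMul.eq_of_smul_eq_smul (α := Ω) fun x => by
    rw [one_smul]
    rcases eq_or_ne x u with rfl | hx
    · exact hu
    · exact h x hx

end Sys

end Cfsg.Agent.Lib.DoublyPrimitive55
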