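import Cfsg.Agent.Lib.DoublyPrimitive55.Affine

/-!
# The system exists only for the group of order 20
-/

set_option autoImplicit false

namespace Cfsg.Agent.Lib.DoublyPrimitive55

open MulAction

variable {G Ω : Type*} [Group G] [Finite G] [MulAction G Ω] [FaithfulSMul G Ω] [Finite Ω]
  {p : ℕ} (S : Sys G Ω p)

namespace Sys

omit [Finite G] [FaithfulSMul G Ω] in
theorem card_stab {a b : Ω} (hab : a ≠ b) :
    Nat.card (stabilizer G a) = p ^ 2 * Nat.card (S.H a b) := by
  rw [← Subgroup.index_mul_card (stabilizer (stabilizer G a) b), index_stabilizer]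
  congr 1
  · refine Eq.trans ?_ (S.card_ne a)
    congr 1
    ext y
    simp only [Set.mem_sdiff, Set.mem_univ, Set.mem_singleton_iff, true_and]
    constructor
    · rintro ⟨k, rfl⟩; exact smul_ne k.2 hab.symm
    · rintro hy
      obtain ⟨k, hk1, hk2⟩ := S.exists_stab hab.symm hy
      exact ⟨⟨k, hk1⟩, hk2⟩
  · exact Nat.card_congr ⟨fun g => ⟨g.1.1, S.mem_H.2 ⟨g.1.2, g.2⟩⟩, fun g => ⟨⟨g.1, g.2.1⟩, g.2.2⟩,
      fun _ => rfl, fun _ => rfl⟩

omit [Finite G] [FaithfulSMul G Ω] in
theorem card_group {a b : Ω} (hab : a ≠ b) :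
    Nat.card G = (p ^ 2 + 1) * (p ^ 2 * Nat.card (S.H a b)) := by
  rw [← S.card_stab hab, ← Subgroup.index_mul_card (stabilizer G a), index_stabilizer]
  congr 1
  rw [← S.card_univ, ← Set.ncard_univ]
  congr 1
  refine Set.eq_univ_of_forall fun y => ?_
  rcases eq_or_ne y a with rfl | hy
  · exact mem_orbit_self _
  · obtain ⟨g, hg, -⟩ := S.two_trans hab hy
    exact ⟨g, hg⟩

omit [Finite G] [FaithfulSMul G Ω] in
theorem exists_ne (S : Sys G Ω p) (hp : p.Prime) (a : Ω) : ∃ b, a ≠ b := by
  haveI : Nontrivial Ω := Finite.one_lt_card_iff_nontrivial.1 (by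
    rw [S.card_univ]; have := pow_pos hp.pos 2; omega)
  obtain ⟨b, hb⟩ := _root_.exists_ne a
  exact ⟨b, hb.symm⟩

/-- A two-point stabilizer has even order when `p` is odd. -/
theorem two_dvd_card_H (hp : p.Prime) (hodd : Odd p) {a b : Ω} (hab : a ≠ b) :
    2 ∣ Nat.card (S.H a b) := by
  classical
  haveI := Fintype.ofFinite Ω
  by_contra h2
  have hHodd : Odd (Nat.card (S.H a b)) := Nat.odd_iff.2 (Nat.two_dvd_ne_zero.1 h2)
  let ε : G →* ℤˣ := Equiv.Perm.sign.comp (MulAction.toPermHom G Ω)
  have hord : ∀ {g : G} {u : Ω}, g • u = u → Odd (orderOf g) := by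
    intro g u hu
    obtain ⟨v, huv⟩ := S.exists_ne hp u
    have h1 : orderOf g ∣ Nat.card (stabilizer G u) := by
      have := orderOf_dvd_natCard (⟨g, mem_stabilizer_iff.2 hu⟩ : stabilizer G u)
      rwa [← Subgroup.orderOf_coe] at this
    rw [S.card_stab huv, ← S.card_H hab huv] at h1
    exact Odd.of_dvd_nat (hodd.pow.mul hHodd) h1
  have hfix : ∀ {g : G} {u : Ω}, g • u = u → ε g = 1 := by
    intro g u hu
    have h1 : ε g ^ orderOf g = 1 := by rw [← map_pow, pow_orderOf_eq_one, map_one]
    rwa [Int.units_pow_eq_pow_mod_two, Nat.odd_iff.1 (hord hu), pow_one] at h1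
  have hall : ∀ g, ε g = 1 := by
    intro g
    rcases eq_or_ne (g • a) a with hga | hga
    · exact hfix hga
    obtain ⟨c, hc⟩ : ∃ c, c ∉ ({a, g • a} : Set Ω) := by
      by_contra h
      push_neg at h
      have h1 := Set.ncard_le_ncard (show Set.univ ⊆ ({a, g • a} : Set Ω) from fun c _ => h c)
      rw [Set.ncard_univ, S.card_univ, Set.ncard_pair hga.symm] at h1
      have := Nat.pow_le_pow_left hp.two_le 2
      omega
    simp only [Set.mem_insert_iff, Set.mem_singleton_iff, not_or] at hc
    obtain ⟨k, hk1, hk2⟩ := S.exists_stab (Ne.symm hc.1) (Ne.symm hc.2)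
    have h : ε (k⁻¹ * g) = 1 := hfix (u := a) (by rw [mul_smul, inv_smul_eq_iff, hk2])
    rwa [map_mul, map_inv, hfix hk1, inv_one, one_mul] at h
  obtain ⟨t, hta, htb⟩ := S.two_trans hab hab.symm
  have htH : t ^ 2 ∈ S.H a b :=
    S.mem_H.2 ⟨by rw [sq, mul_smul, hta, htb], by rw [sq, mul_smul, htb, hta]⟩
  set t' := t ^ Nat.card (S.H a b) with ht'
  have ht'a : t' • a = b := by
    obtain ⟨k, hk⟩ := hHodd
    rw [ht', hk, pow_succ', pow_mul, mul_smul, ((S.H a b).pow_mem htH k).1, hta]
  have ht'2 : t' ^ 2 = 1 := by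
    have h := congrArg Subtype.val (pow_card_eq_one' (G := S.H a b) (x := ⟨t ^ 2, htH⟩))
    rw [ht', ← pow_mul, mul_comm, pow_mul]
    exact h
  have hfree : ∀ u : Ω, t' • u ≠ u := by
    intro u hu
    have h1 : orderOf t' ∣ 2 := orderOf_dvd_of_pow_eq_one ht'2
    rcases (Nat.dvd_prime Nat.prime_two).1 h1 with h | h
    · rw [orderOf_eq_one_iff] at h
      rw [h, one_smul] at ht'a
      exact hab ht'a
    · have := hord hu
      rw [h] at this
      exact absurd this (by decide)
  have hs := hall t'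
  change Equiv.Perm.sign (MulAction.toPermHom G Ω t') = 1 at hs
  rw [Equiv.Perm.sign_of_pow_two_eq_one (by rw [← map_pow, ht'2, map_one])] at hs
  have h0 : Fintype.card (Function.fixedPoints (MulAction.toPermHom G Ω t')) = 0 :=
    Fintype.card_eq_zero_iff.2 ⟨fun x => hfree x.1 x.2⟩
  rw [h0, Nat.sub_zero, ← Nat.card_eq_fintype_card (α := Ω), S.card_univ] at hs
  obtain ⟨k, rfl⟩ := hodd
  rw [show ((2 * k + 1) ^ 2 + 1) / 2 = 2 * (k ^ 2 + k) + 1 by
    rw [show (2 * k + 1) ^ 2 + 1 = (2 * (k ^ 2 + k) + 1) * 2 by ring, Nat.mul_div_cancel _ two_pos]] at hs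
  simp [pow_succ, pow_mul] at hs

/-- For odd `p` there is no such system. -/
theorem false_of_odd (S : Sys G Ω p) (hp : p.Prime) (hodd : Odd p) (a : Ω) : False := by
  classical
  haveI := Fact.mk hp
  haveI := Fintype.ofFinite Ω
  obtain ⟨b, hab⟩ := S.exists_ne hp a
  have hexz : ∀ u v : Ω, ∃ z : G, u ≠ v → z ∈ S.H u v ∧ z ≠ 1 ∧ z * z = 1 := by
    intro u v
    by_cases huv : u = v
    · exact ⟨1, fun h => absurd huv h⟩
    obtain ⟨z, hz⟩ := exists_prime_orderOf_dvd_card' 2 (S.two_dvd_card_H hp hodd huv)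
    refine ⟨z, fun _ => ⟨z.2, fun h => ?_, ?_⟩⟩
    · have : z = 1 := Subtype.ext h
      rw [this, orderOf_one] at hz
      omega
    · have h := pow_orderOf_eq_one z
      rw [hz, sq] at h
      exact congrArg Subtype.val h
  choose z hz using hexz
  have huq : ∀ {u v} {g : G}, u ≠ v → g ∈ S.H u v → g ≠ 1 → g * g = 1 → z u v = g :=
    fun {u v g} huv hg h1 h2 =>
      S.involution_unique hp huv (hz u v huv).1 hg (hz u v huv).2.1 h1 (hz u v huv).2.2 h2
  set F : Ω → Ω → Set Ω := fun u v => {x | z u v • x = x}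
  have hFmem : ∀ {u v}, u ≠ v → u ∈ F u v ∧ v ∈ F u v := fun {u v} h =>
    ⟨(hz u v h).1.1, (hz u v h).1.2⟩
  have hFuniq : ∀ {u v x y}, u ≠ v → x ≠ y → x ∈ F u v → y ∈ F u v → z x y = z u v :=
    fun {u v x y} huv hxy hx hy => huq hxy (S.mem_H.2 ⟨hx, hy⟩) (hz u v huv).2.1 (hz u v huv).2.2
  have hFcard : ∀ {u v}, u ≠ v → (F u v).ncard = (F a b).ncard := by
    intro u v huv
    obtain ⟨k, rfl, rfl⟩ := S.two_trans hab huv
    have hzk : z (k • a) (k • b) = k * z a b * k⁻¹ := by
      refine huq huv (S.conj_mem_H.2 (hz a b hab).1) (fun h => (hz a b hab).2.1 ?_) ?_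
      · simpa [mul_inv_eq_iff_eq_mul] using h
      · rw [show k * z a b * k⁻¹ * (k * z a b * k⁻¹) = k * (z a b * z a b) * k⁻¹ by group,
          (hz a b hab).2.2, mul_one, mul_inv_cancel]
    have himg : F (k • a) (k • b) = (k • ·) '' F a b := by
      ext x
      simp only [F, hzk, Set.mem_setOf_eq, Set.mem_image, mul_smul]
      constructor
      · intro hx
        exact ⟨k⁻¹ • x, (eq_inv_smul_iff).2 hx, smul_inv_smul k x⟩
      · rintro ⟨y, hy, rfl⟩
        rw [inv_smul_smul, hy]
    rw [himg, Set.ncard_image_of_injective _ (MulAction.injective k)]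
  by_cases hbig : ∃ y, y ≠ a ∧ y ≠ b ∧ z a b • y = y
  · obtain ⟨y, hya, hyb, hy⟩ := hbig
    set i := z a b
    obtain ⟨hiH, hi1, hisq⟩ := hz a b hab
    have hyX : ¬ S.R a b y := fun h => hi1 (S.eq_one_of_two_in_block hp hiH h hyb hy)
    have hiK : i ∈ S.K a := by
      rcases S.blocks_dichotomy hp a with haff | htr
      · exact S.mem_K_of_two haff hp hiH.1 hab.symm hya hyX (by rw [hiH.2]; exact S.refl hab.symm)
          (by rw [hy]; exact S.refl hya)
      · exfalso
        haveI : Finite (S.Blk a) := Subtype.finite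
        let f : S.H a b → S.Blk a := fun h => ⟨S.blk a ((h : G) • y), _, smul_ne h.2.1 hya, rfl⟩
        have hfi : f ⟨i, hiH⟩ = f 1 := Subtype.ext (by
          show S.blk a (i • y) = S.blk a ((1 : G) • y)
          rw [hy, one_smul])
        have hsub : Set.univ \ {(⟨S.blk a b, b, hab.symm, rfl⟩ : S.Blk a)} ⊆
            f '' (Set.univ \ {⟨i, hiH⟩}) := by
          rintro ⟨_, w, hw, rfl⟩ ⟨-, hwX⟩
          obtain ⟨h, hh, hR⟩ := htr hab.symm hya hw hyX (fun e => hwX (Subtype.ext (S.block_eq e)))
          have hfe : f ⟨h, hh⟩ = ⟨S.blk a w, w, hw, rfl⟩ := Subtype.ext (S.block_eq hR)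
          rcases eq_or_ne (⟨h, hh⟩ : S.H a b) ⟨i, hiH⟩ with e | e
          · refine ⟨1, ⟨trivial, fun e' => hi1 (congrArg Subtype.val e').symm⟩, ?_⟩
            rw [← hfi, ← e, hfe]
          · exact ⟨⟨h, hh⟩, ⟨trivial, e⟩, hfe⟩
        have h1 := (Set.ncard_le_ncard hsub).trans Set.ncard_image_le
        rw [Set.ncard_sdiff (Set.subset_univ _), Set.ncard_sdiff (Set.subset_univ _), Set.ncard_univ,
          Set.ncard_univ, S.card_Blk hp, Set.ncard_singleton, Set.ncard_singleton] at h1
        have := S.card_H_le hp hab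
        have := hp.two_le
        omega
    haveI : Finite (S.Blk a) := Subtype.finite
    have hex : ∀ w, w ≠ a → ∃ x, S.R a w x ∧ i • x = x := by
      intro w hw
      obtain ⟨e, he⟩ := S.exists_affine hp hw.symm
      obtain ⟨m, c, hmc⟩ := he ⟨i, S.K_le_L hiK⟩
      have h2 : (2 : ZMod p) ≠ 0 := by
        intro h
        have := (CharP.cast_eq_zero_iff (ZMod p) p 2).1 (by exact_mod_cast h)
        exact absurd this (fun h' => by
          have := Nat.le_of_dvd two_pos h'
          have := hp.two_le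
          obtain ⟨k, hk⟩ := hodd
          omega)
      have key : ∀ x, m * (m * e x + c) + c = e x := fun x => by
        rw [← hmc x, ← hmc, smul_smul,
          show (⟨i, S.K_le_L hiK⟩ : S.L a w) * ⟨i, S.K_le_L hiK⟩ = 1 from Subtype.ext hisq, one_smul]
      obtain ⟨x, hx⟩ : ∃ x, m * e x + c = e x := by
        by_cases hm : m = 1
        · refine ⟨e.symm 0, ?_⟩
          have h := key (e.symm 0)
          rw [hm, e.apply_symm_apply] at h ⊢
          have : c = 0 := (mul_eq_zero.1 (by linear_combination h : (2 : ZMod p) * c = 0)).resolve_left h2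
          rw [this]; ring
        · refine ⟨e.symm (c / (1 - m)), ?_⟩
          rw [e.apply_symm_apply]
          have : (1 - m) ≠ 0 := sub_ne_zero.2 (Ne.symm hm)
          field_simp
          ring
      exact ⟨x, x.2, congrArg Subtype.val (e.injective ((hmc x).trans hx))⟩
    have hone : ∀ {w w'}, S.R a w w' → i • w = w → i • w' = w' → w = w' := by
      intro w w' hR hw hw'
      by_contra hne
      exact hi1 (S.eq_one_of_two_in_block hp (S.mem_H.2 ⟨hiH.1, hw⟩) hR (Ne.symm hne) hw')
    have hcard : (F a b).ncard = p + 1 := by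
      let f : (F a b \ {a} : Set Ω) → S.Blk a := fun x => ⟨S.blk a x, x, x.2.2, rfl⟩
      have hf : Function.Bijective f := by
        constructor
        · intro x x' h
          exact Subtype.ext (hone ((S.blk_eq_iff x'.2.2).1 (congrArg Subtype.val h)) x.2.1 x'.2.1)
        · rintro ⟨_, w, hw, rfl⟩
          obtain ⟨x, hx, hfx⟩ := hex w hw
          exact ⟨⟨x, hfx, S.R_ne hx⟩, Subtype.ext (S.block_eq hx)⟩
      rw [← Set.ncard_sdiff_singleton_add_one (hFmem hab).1, ← Nat.card_coe_set_eq,
        Nat.card_congr (Equiv.ofBijective f hf), S.card_Blk hp]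
    refine no_steiner S hp.two_le F (fun h => (hFcard h).trans hcard) (fun h => hFmem h)
      (fun {u v x y} huv hxy hx hy => ?_)
    show {w | z x y • w = w} = {w | z u v • w = w}
    rw [hFuniq huv hxy hx hy]
  · push_neg at hbig
    have hFab : (F a b).ncard = 2 := by
      rw [show F a b = {a, b} from Set.ext fun x => ⟨fun hx => by
        by_contra h
        simp only [Set.mem_insert_iff, Set.mem_singleton_iff, not_or] at h
        exact hbig x h.1 h.2 hx, by rintro (rfl | rfl); exacts [(hFmem hab).1, (hFmem hab).2]⟩,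
        Set.ncard_pair hab]
    have hFeq : ∀ {u v}, u ≠ v → F u v = {u, v} := fun {u v} huv =>
      (Set.eq_of_subset_of_ncard_le (by rintro x (rfl | rfl); exacts [(hFmem huv).1, (hFmem huv).2])
        (by rw [hFcard huv, hFab, Set.ncard_pair huv])).symm
    set pairs := (Finset.univ : Finset Ω).offDiag
    set Z := pairs.image fun q => z q.1 q.2
    have hpairs : pairs.card = 2 * Z.card := by
      rw [Finset.card_eq_sum_card_image (fun q => z q.1 q.2) pairs, mul_comm, ← smul_eq_mul,
        ← Finset.sum_const]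
      refine Finset.sum_congr rfl fun i hi => ?_
      obtain ⟨⟨u, v⟩, huv, rfl⟩ := Finset.mem_image.1 hi
      replace huv : u ≠ v := by simpa [pairs] using huv
      have : (pairs.filter fun q => z q.1 q.2 = z u v) = {(u, v), (v, u)} := by
        ext ⟨x, y⟩
        simp only [pairs, Finset.mem_filter, Finset.mem_offDiag, Finset.mem_univ, true_and,
          Finset.mem_insert, Finset.mem_singleton, Prod.mk.injEq]
        constructor
        · rintro ⟨hxy, he⟩
          have hx : x ∈ F u v := by show z u v • x = x; rw [← he]; exact (hz x y hxy).1.1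
          have hy : y ∈ F u v := by show z u v • y = y; rw [← he]; exact (hz x y hxy).1.2
          rw [hFeq huv] at hx hy
          rcases hx with rfl | rfl <;> rcases hy with rfl | rfl
          · exact absurd rfl hxy
          · exact Or.inl ⟨rfl, rfl⟩
          · exact Or.inr ⟨rfl, rfl⟩
          · exact absurd rfl hxy
        · rintro (⟨rfl, rfl⟩ | ⟨rfl, rfl⟩)
          · exact ⟨huv, rfl⟩
          · exact ⟨huv.symm, hFuniq huv huv.symm (hFmem huv).2 (hFmem huv).1⟩
      rw [this, Finset.card_pair (by simp [huv])]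
    set T := Z.sigma fun i => Finset.univ.filter fun x : Ω => i • x ≠ x
    have hT : T.card = Z.card * (p ^ 2 - 1) := by
      rw [Finset.card_sigma, ← smul_eq_mul, ← Finset.sum_const]
      refine Finset.sum_congr rfl fun i hi => ?_
      obtain ⟨⟨u, v⟩, huv, rfl⟩ := Finset.mem_image.1 hi
      replace huv : u ≠ v := by simpa [pairs] using huv
      have : (Finset.univ.filter fun x : Ω => z u v • x ≠ x) = ({u, v} : Finset Ω)ᶜ := by
        ext x
        have h := Set.ext_iff.1 (hFeq huv) x
        simp only [F, Set.mem_setOf_eq, Set.mem_insert_iff, Set.mem_singleton_iff] at h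
        simp [h]
      rw [this, Finset.card_compl, Finset.card_pair huv, ← Nat.card_eq_fintype_card, S.card_univ]
      omega
    have hle : T.card ≤ (p - 1) * (T.image fun q => (q.2, q.1 • q.2)).card := by
      refine Finset.card_le_mul_card_image _ _ ?_
      intro q hq
      obtain ⟨⟨i₀, x⟩, hmem, rfl⟩ := Finset.mem_image.1 hq
      simp only [T, Finset.mem_sigma, Finset.mem_filter, Finset.mem_univ, true_and] at hmem
      set y := i₀ • x
      have hZsq : ∀ i ∈ Z, i * i = 1 := by
        intro i hi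
        obtain ⟨⟨u, v⟩, huv, rfl⟩ := Finset.mem_image.1 hi
        exact (hz u v (by simpa [pairs] using huv)).2.2
      refine le_trans ?_ (S.card_H_le hp (u := x) (v := y) hmem.2.symm)
      rw [← Fintype.card_coe, ← Nat.card_eq_fintype_card]
      refine Nat.card_le_card_of_injective (fun r => ⟨i₀⁻¹ * r.1.1, ?_⟩) ?_
      · have hr := r.2
        simp only [T, Finset.mem_filter, Finset.mem_sigma, Finset.mem_univ, true_and, Prod.mk.injEq] at hr
        have hrx : r.1.1 • x = y := by
          have e := hr.2.2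
          rwa [hr.2.1] at e
        have hinv : ∀ j ∈ Z, ∀ {c d : Ω}, j • c = d → j • d = c := fun j hj {c d} h => by
          rw [← h, smul_smul, hZsq j hj, one_smul]
        refine S.mem_H.2 ⟨?_, ?_⟩
        · rw [mul_smul, hrx, inv_smul_eq_iff]
        · rw [mul_smul, hinv _ hr.1.1 hrx, inv_smul_eq_iff]
          exact (hinv _ hmem.1 rfl).symm
      · intro r r' h
        have h1 : r.1.1 = r'.1.1 := mul_left_cancel (congrArg Subtype.val h)
        have hr := r.2
        have hr' := r'.2
        simp only [T, Finset.mem_filter, Finset.mem_sigma, Finset.mem_univ, true_and, Prod.mk.injEq] at hr hr'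
        exact Subtype.ext (Sigma.ext h1 (heq_of_eq (hr.2.1.trans hr'.2.1.symm)))
    have himg : (T.image fun q => (q.2, q.1 • q.2)).card ≤ pairs.card := by
      refine Finset.card_le_card fun q hq => ?_
      obtain ⟨⟨i, x⟩, hmem, rfl⟩ := Finset.mem_image.1 hq
      simp only [T, Finset.mem_sigma, Finset.mem_filter, Finset.mem_univ, true_and] at hmem
      simpa [pairs] using hmem.2.symm
    have hpos : 0 < Z.card := Finset.card_pos.2 ⟨z a b, Finset.mem_image.2 ⟨(a, b), by simp [pairs, hab], rfl⟩⟩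
    have h3 : Z.card * (p ^ 2 - 1) ≤ Z.card * (2 * (p - 1)) := by
      rw [← hT]
      calc T.card ≤ (p - 1) * pairs.card := hle.trans (Nat.mul_le_mul_left _ himg)
        _ = Z.card * (2 * (p - 1)) := by rw [hpairs]; ring
    have h4 := Nat.le_of_mul_le_mul_left h3 hpos
    have h5 : 3 ≤ p := by obtain ⟨k, hk⟩ := hodd; have := hp.two_le; omega
    have h6 : 3 * p ≤ p ^ 2 := by rw [sq]; exact Nat.mul_le_mul_right p h5
    omega

/-- The only possibility is the group of order 20. -/
theorem eq_two_and_card (S : Sys G Ω p) (hp : p.Prime) (a : Ω) : p = 2 ∧ Nat.card G = 20 := by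
  rcases hp.eq_two_or_odd' with rfl | hodd
  · obtain ⟨b, hab⟩ := S.exists_ne Nat.prime_two a
    refine ⟨rfl, ?_⟩
    have h1 := S.card_H_le Nat.prime_two hab
    have h2 : 0 < Nat.card (S.H a b) := Nat.card_pos
    rw [S.card_group hab, show Nat.card (S.H a b) = 1 by omega]
    norm_num
  · exact (S.false_of_odd hp hodd a).elim

end Sys

end Cfsg.Agent.Lib.DoublyPrimitive55
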