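import Cfsg.Agent.Lib.DoublyPrimitive55.Structure

/-!
# A two-point stabilizer acts semiregularly and affinely on its block
-/

set_option autoImplicit false

namespace Cfsg.Agent.Lib.DoublyPrimitive55

open MulAction

variable {G Ω : Type*} [Group G] [Finite G] [MulAction G Ω] [FaithfulSMul G Ω] [Finite Ω]
  {p : ℕ} (S : Sys G Ω p)

namespace Sys

omit [Finite G] [FaithfulSMul G Ω] [Finite Ω] in
theorem conj_K1_stab {u v : Ω} {g k : G} (hk : k • u = u) (hkv : S.R u v (k • v))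
    (hg : g ∈ S.K1 u v) : k * g * k⁻¹ ∈ S.K1 u v := by
  have h := (S.conj_mem_K1 (k := k)).2 hg
  rwa [hk, ← S.K1_congr hkv] at h

/-- An element of the kernel fixing a block pointwise is trivial. -/
theorem K_inf_K1 (hp : p.Prime) {u v : Ω} (huv : v ≠ u) {g : G} (hgK : g ∈ S.K u)
    (hg1 : g ∈ S.K1 u v) : g = 1 := by
  classical
  haveI := Fintype.ofFinite Ω
  refine S.eq_one_of_fix hgK.1 fun y hy => ?_
  set N : Subgroup G := S.K u ⊓ S.K1 u v with hN
  set T := Finset.univ.filter fun z : Ω => S.R u y z with hT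
  have hTc : T.card = p := by
    refine Eq.trans ?_ (S.card_block hy)
    rw [Set.ncard_eq_toFinset_card']
    congr 1
    ext z; simp [T]
  let φ : Ω → Set Ω := fun z => orbit N z
  have hNk : ∀ k ∈ S.K u, ∀ n ∈ N, k * n * k⁻¹ ∈ N := fun k hk n hn =>
    ⟨S.conj_K_stab hk.1 hn.1, S.conj_K1_stab hk.1 (hk.2 v huv) hn.2⟩
  have key : ∀ k ∈ S.K u, ∀ w, φ (k • w) = (k • ·) '' φ w := by
    intro k hk w
    ext x
    constructor
    · rintro ⟨n, rfl⟩
      have h := hNk _ ((S.K u).inv_mem hk) n n.2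
      rw [inv_inv] at h
      refine ⟨(k⁻¹ * n * k) • w, ⟨⟨_, h⟩, rfl⟩, ?_⟩
      simp [mul_smul, Subgroup.smul_def]
    · rintro ⟨_, ⟨n, rfl⟩, rfl⟩
      exact ⟨⟨_, hNk k hk n n.2⟩, by simp [mul_smul, Subgroup.smul_def]⟩
  have hfib := fibre_card_dvd (G := G) T φ (fun z₁ hz₁ z₂ hz₂ => ?_) y (by simp [T, S.refl hy])
  swap
  · simp only [T, Finset.mem_filter, Finset.mem_univ, true_and] at hz₁ hz₂
    obtain ⟨k, hk, hk2⟩ := S.exists_K_smul hp (S.trans (S.symm hz₁) hz₂)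
    refine ⟨k, hk2, fun z hz => ?_, fun z _ z' _ he => by rw [key k hk, key k hk, he]⟩
    simp only [T, Finset.mem_filter, Finset.mem_univ, true_and] at hz ⊢
    exact S.trans hz (hk.2 z (S.R_ne hz))
  have horb : ((T.filter fun z => φ z = φ y) : Set Ω) = orbit N y := by
    ext z
    simp only [T, φ, Finset.coe_filter, Finset.mem_filter, Finset.mem_univ, true_and, Set.mem_setOf_eq]
    constructor
    · rintro ⟨-, h⟩
      exact h ▸ mem_orbit_self z
    · intro h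
      refine ⟨?_, orbit_eq_iff.2 h⟩
      obtain ⟨n, rfl⟩ := h
      exact n.2.1.2 y hy
  rw [hTc] at hfib
  rcases (Nat.dvd_prime hp).1 (Dvd.intro_left _ hfib.symm) with h1 | h1
  · rw [← Set.ncard_coe_finset, horb, Set.ncard_eq_one] at h1
    obtain ⟨z, hz⟩ := h1
    have h2 : g • y ∈ orbit N y := ⟨⟨g, hgK, hg1⟩, rfl⟩
    have h3 := mem_orbit_self (M := N) y
    rw [hz] at h2 h3
    exact (Set.mem_singleton_iff.1 h2).trans (Set.mem_singleton_iff.1 h3).symm
  · exfalso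
    rw [← Set.ncard_coe_finset, horb] at h1
    have hd : p ∣ Nat.card N := by
      rw [← h1, ← index_stabilizer]
      exact Subgroup.index_dvd_card _
    exact S.not_dvd_card_H hp huv.symm (hd.trans (Subgroup.card_dvd_of_le (inf_le_right.trans (S.K1_le huv))))

theorem commute_K1_K (hp : p.Prime) {u v : Ω} (huv : v ≠ u) {k g : G} (hk : k ∈ S.K1 u v)
    (hg : g ∈ S.K u) : k * g = g * k := by
  have h : k * g * k⁻¹ * g⁻¹ = 1 := by
    refine S.K_inf_K1 hp huv ((S.K u).mul_mem (S.conj_K_stab hk.1 hg) ((S.K u).inv_mem hg)) ?_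
    rw [show k * g * k⁻¹ * g⁻¹ = k * (g * k⁻¹ * g⁻¹) by group]
    exact (S.K1 u v).mul_mem hk (S.conj_K1_stab hg.1 (hg.2 v huv) ((S.K1 u v).inv_mem hk))
  rw [mul_inv_eq_one, mul_inv_eq_iff_eq_mul] at h
  exact h

/-- The fixed points of a nontrivial pointwise stabilizer of a block. -/
theorem R_of_fixed_K1 (hp : p.Prime) {u v : Ω} (huv : v ≠ u) (hne : S.K1 u v ≠ ⊥) {y : Ω}
    (hy : y ≠ u) (hfix : ∀ k ∈ S.K1 u v, k • y = y) : S.R u v y := by
  by_contra hR
  have hle : S.K1 u v ≤ S.K1 u y := by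
    intro k hk
    refine ⟨hk.1, fun z hz => ?_⟩
    obtain ⟨g, hg, rfl⟩ := S.exists_K_smul hp hz
    rw [← mul_smul, S.commute_K1_K hp huv hk hg, mul_smul, hfix k hk]
  have heq := Subgroup.eq_of_le_of_card_ge hle (S.card_K1 huv.symm hy.symm).ge
  have hall := S.fun_blocks hp (fun y => S.K1 u y) (fun h => S.K1_congr h)
    (fun k {y z} hk _ _ he => Subgroup.ext fun g => by
      have h1 := S.conj_mem_K1 (u := u) (v := y) (g := k⁻¹ * g * k) (k := k)
      have h2 := S.conj_mem_K1 (u := u) (v := z) (g := k⁻¹ * g * k) (k := k)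
      rw [hk, show k * (k⁻¹ * g * k) * k⁻¹ = g by group] at h1 h2
      rw [h1, h2, he]) huv hy hR heq
  apply hne
  rw [Subgroup.eq_bot_iff_forall]
  intro k hk
  refine S.eq_one_of_fix hk.1 fun x hx => ?_
  exact ((hall x hx).symm ▸ hk : k ∈ S.K1 u x).2 x (S.refl hx)

omit [Finite G] [FaithfulSMul G Ω] [Finite Ω] in
theorem blockPerm_fix_iff {u v : Ω} (hv : v ≠ u) (g : stabilizer G u) :
    S.blockPerm u g ⟨S.blk u v, v, hv, rfl⟩ = ⟨S.blk u v, v, hv, rfl⟩ ↔ S.R u v ((g : G) • v) := by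
  rw [S.blockPerm_apply hv, Subtype.ext_iff]
  exact eq_comm.trans (S.blk_eq_iff (smul_ne g.2 hv))

/-- The stabilizer of a point is affine or two-transitive on its blocks. -/
theorem blocks_dichotomy (hp : p.Prime) (u : Ω) :
    (∃ e : S.Blk u ≃ ZMod p, ∀ g : stabilizer G u, ∃ m c : ZMod p,
      ∀ x, e (S.blockPerm u g x) = m * e x + c) ∨
    (∀ {v y z : Ω}, v ≠ u → y ≠ u → z ≠ u → ¬ S.R u v y → ¬ S.R u v z →
      ∃ h ∈ S.H u v, S.R u z (h • y)) := by
  classical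
  haveI := Fact.mk hp
  haveI : Finite (S.Blk u) := Subtype.finite
  set R := (S.blockPerm u).range
  haveI : IsPretransitive R (S.Blk u) := ⟨by
    rintro ⟨_, v, hv, rfl⟩ ⟨_, w, hw, rfl⟩
    obtain ⟨k, hk1, hk2⟩ := S.exists_stab hv hw
    refine ⟨⟨_, ⟨k, hk1⟩, rfl⟩, ?_⟩
    show S.blockPerm u ⟨k, hk1⟩ _ = _
    rw [S.blockPerm_apply hv]
    exact Subtype.ext (congrArg (S.blk u) hk2)⟩
  by_cases hs : Group.IsSolvable R
  · left
    obtain ⟨e, he⟩ := PrimeDegree.affine_of_solvable (G := R) (S.card_Blk hp u) hs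
    exact ⟨e, fun g => he ⟨_, g, rfl⟩⟩
  · right
    intro v y z hv hy hz hvy hvz
    have h2 := (PrimeDegree.burnside (G := R) (S.card_Blk hp u) hs).1
    rw [MulAction.is_two_pretransitive_iff] at h2
    obtain ⟨⟨_, g, rfl⟩, hg1, hg2⟩ := h2 (a := ⟨S.blk u v, v, hv, rfl⟩) (b := ⟨S.blk u y, y, hy, rfl⟩)
      (c := ⟨S.blk u v, v, hv, rfl⟩) (d := ⟨S.blk u z, z, hz, rfl⟩)
      (fun h => hvy ((S.blk_eq_iff hy).1 (congrArg Subtype.val h)))
      (fun h => hvz ((S.blk_eq_iff hz).1 (congrArg Subtype.val h)))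
    have e1 : S.R u v ((g : G) • v) := (S.blockPerm_fix_iff hv g).1 hg1
    have e2 : S.blockPerm u g ⟨S.blk u y, y, hy, rfl⟩ = ⟨S.blk u z, z, hz, rfl⟩ := hg2
    rw [S.blockPerm_apply hy, Subtype.ext_iff] at e2
    have e2' : S.R u z ((g : G) • y) := (S.blk_eq_iff (smul_ne g.2 hy)).1 e2.symm
    obtain ⟨k, hk, hkv⟩ := S.exists_K_smul hp (u := u) (v := (g : G) • v) (w := v)
      (S.trans (S.symm e1) (S.refl hv))
    refine ⟨k * g, S.mem_H.2 ⟨by rw [mul_smul, (g.2 : (g : G) • u = u), hk.1],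
      by rw [mul_smul, hkv]⟩, ?_⟩
    rw [mul_smul]
    exact S.trans e2' (hk.2 _ (smul_ne g.2 hy))

/-- In the affine case an element fixing two blocks lies in the kernel. -/
theorem mem_K_of_two {u : Ω}
    (haff : ∃ e : S.Blk u ≃ ZMod p, ∀ g : stabilizer G u, ∃ m c : ZMod p,
      ∀ x, e (S.blockPerm u g x) = m * e x + c) (hp : p.Prime)
    {g : G} (hg : g • u = u) {y z : Ω} (hy : y ≠ u) (hz : z ≠ u) (hyz : ¬ S.R u y z)
    (h1 : S.R u y (g • y)) (h2 : S.R u z (g • z)) : g ∈ S.K u := by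
  haveI := Fact.mk hp
  obtain ⟨e, he⟩ := haff
  obtain ⟨m, c, hmc⟩ := he ⟨g, hg⟩
  have e1 := hmc ⟨S.blk u y, y, hy, rfl⟩
  have e2 := hmc ⟨S.blk u z, z, hz, rfl⟩
  rw [(S.blockPerm_fix_iff hy ⟨g, hg⟩).2 h1] at e1
  rw [(S.blockPerm_fix_iff hz ⟨g, hg⟩).2 h2] at e2
  have hne : e ⟨S.blk u y, y, hy, rfl⟩ - e ⟨S.blk u z, z, hz, rfl⟩ ≠ 0 := fun h =>
    hyz ((S.blk_eq_iff hz).1 (congrArg Subtype.val (e.injective (sub_eq_zero.1 h))))
  have hm : m = 1 := by
    have h : (m - 1) * (e ⟨S.blk u y, y, hy, rfl⟩ - e ⟨S.blk u z, z, hz, rfl⟩) = 0 := by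
      linear_combination e2 - e1
    exact sub_eq_zero.1 ((mul_eq_zero.1 h).resolve_right hne)
  have hc : c = 0 := by rw [hm, one_mul] at e1; linear_combination -e1
  refine (S.mem_ker_blockPerm ⟨g, hg⟩).1 (MonoidHom.mem_ker.2 (Equiv.ext fun x => e.injective ?_))
  rw [hmc, hm, hc, one_mul, add_zero, Equiv.Perm.one_apply]

omit [Finite G] [FaithfulSMul G Ω] in
theorem B_ne (hp : p.Prime) {a b : Ω} (hab : a ≠ b) : S.B b a ≠ S.B a b :=
  fun h => hab (S.centre_unique hp.two_le hab.symm hab h.symm)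

omit [Finite G] [FaithfulSMul G Ω] in
theorem exists_outside (hp : p.Prime) {a b : Ω} (hab : a ≠ b) :
    ∃ y, S.R b a y ∧ y ≠ a ∧ ¬ S.R a b y := by
  by_contra hne
  push_neg at hne
  refine S.B_ne hp hab (Set.eq_of_subset_of_ncard_le ?_ (by rw [S.B_card hab, S.B_card hab.symm]))
  rintro x (rfl | hx)
  · exact Or.inr (S.refl hab.symm)
  · rcases eq_or_ne x a with rfl | hxa
    · exact Or.inl rfl
    · exact Or.inr (hne x hx hxa)

omit [Finite G] [FaithfulSMul G Ω] [Finite Ω] in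
theorem R_smul_H {u v w : Ω} {g : G} (hg : g ∈ S.H u v) (h : S.R u v w) : S.R u v (g • w) := by
  have h' := S.smul g h
  rwa [hg.1, hg.2] at h'

/-- If the blocks of `a` other than that of `b` are permuted transitively, the other block of `b`
meets each of them once. -/
theorem meets_once (hp : p.Prime) {a b : Ω} (hab : a ≠ b)
    (htr : ∀ {v y z : Ω}, v ≠ a → y ≠ a → z ≠ a → ¬ S.R a v y → ¬ S.R a v z →
      ∃ h ∈ S.H a v, S.R a z (h • y)) :
    (∀ y, S.R b a y → y ≠ a → ¬ S.R a b y) ∧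
    (∀ y z, S.R b a y → y ≠ a → S.R b a z → z ≠ a → S.R a y z → y = z) ∧
    (∀ z, z ≠ a → ¬ S.R a b z → ∃ y, S.R b a y ∧ y ≠ a ∧ S.R a z y) := by
  classical
  haveI : Finite (S.Blk a) := Subtype.finite
  obtain ⟨y₀, hy₀, hy₀a, hy₀X⟩ := S.exists_outside hp hab
  have hmeet : ∀ z, z ≠ a → ¬ S.R a b z → ∃ y, S.R b a y ∧ y ≠ a ∧ S.R a z y := by
    intro z hz hzX
    obtain ⟨h, hh, hR⟩ := htr hab.symm hy₀a hz hy₀X hzX
    refine ⟨h • y₀, ?_, smul_ne hh.1 hy₀a, hR⟩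
    exact S.R_smul_H (S.H_comm a b ▸ hh) hy₀
  set Y : Set Ω := {y | S.R b a y} \ {a}
  have hYcard : Y.ncard = p - 1 := by
    rw [Set.ncard_sdiff (s := {a}) (t := {y | S.R b a y}) (Set.singleton_subset_iff.2 (S.refl hab)),
      S.card_block hab, Set.ncard_singleton]
  let f : Y → S.Blk a := fun y => ⟨S.blk a y, y, y.2.2, rfl⟩
  set bX : S.Blk a := ⟨S.blk a b, b, hab.symm, rfl⟩
  have hsur : Set.univ \ {bX} ⊆ Set.range f := by
    rintro ⟨_, z, hz, rfl⟩ ⟨-, hne⟩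
    have hzX : ¬ S.R a b z := fun hR => hne (Subtype.ext (S.block_eq hR))
    obtain ⟨y, hy1, hy2, hy3⟩ := hmeet z hz hzX
    exact ⟨⟨y, hy1, hy2⟩, Subtype.ext ((S.blk_eq_iff hz).2 (S.symm (S.trans (S.symm (S.refl hz)) hy3) |> fun h => by
      exact S.trans (S.refl (S.ne_left h)) h))⟩
  have hrange : (Set.range f).ncard ≤ p - 1 := by
    rw [← Set.image_univ, ← hYcard, ← Nat.card_coe_set_eq Y, ← Set.ncard_univ]
    exact Set.ncard_image_le
  have hu : (Set.univ \ {bX} : Set (S.Blk a)).ncard = p - 1 := by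
    rw [Set.ncard_sdiff (Set.subset_univ _), Set.ncard_univ, S.card_Blk hp, Set.ncard_singleton]
  have heq : Set.univ \ {bX} = Set.range f := Set.eq_of_subset_of_ncard_le hsur (by omega)
  have hinj : Function.Injective f := by
    have hbij : Function.Bijective (Set.rangeFactorization f) := by
      haveI : Finite Y := Subtype.finite
      refine (Nat.bijective_iff_surjective_and_card _).2 ⟨Set.rangeFactorization_surjective, ?_⟩
      rw [Nat.card_coe_set_eq, Nat.card_coe_set_eq, ← heq, hu, hYcard]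
    intro y z h
    exact hbij.1 (Subtype.ext h)
  refine ⟨fun y hy hya hR => ?_, fun y z hy hya hz hza hR => ?_, hmeet⟩
  · have : f ⟨y, hy, hya⟩ ∈ Set.univ \ {bX} := heq ▸ ⟨_, rfl⟩
    exact this.2 (Subtype.ext (S.block_eq hR))
  · exact congrArg Subtype.val (@hinj ⟨y, hy, hya⟩ ⟨z, hz, hza⟩ (Subtype.ext (S.block_eq hR).symm))

/-- The subgroups `K ∩ G_w` of the points of a block. -/
def classOf (u v : Ω) : Set (Subgroup G) := {C | ∃ w, S.R u v w ∧ C = S.K u ⊓ stabilizer G w}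

omit [Finite G] [FaithfulSMul G Ω] [Finite Ω] in
theorem classOf_congr {u v w : Ω} (h : S.R u v w) : S.classOf u v = S.classOf u w :=
  Set.ext fun _ => ⟨fun ⟨x, hx, e⟩ => ⟨x, S.trans (S.symm h) hx, e⟩,
    fun ⟨x, hx, e⟩ => ⟨x, S.trans h hx, e⟩⟩

omit [Finite G] [FaithfulSMul G Ω] [Finite Ω] in
theorem K_inf_stab_smul {u w : Ω} {k : G} (hk : k • u = u) :
    S.K u ⊓ stabilizer G (k • w) = (S.K u ⊓ stabilizer G w).map (MulAut.conj k).toMonoidHom := by
  have hk' : k⁻¹ • u = u := by rw [inv_smul_eq_iff, hk]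
  ext g
  constructor
  · rintro ⟨h1, h2⟩
    refine ⟨k⁻¹ * g * k, ⟨?_, ?_⟩, by simp [mul_assoc]⟩
    · have h := S.conj_K_stab hk' h1
      rwa [inv_inv] at h
    · show (k⁻¹ * g * k) • w = w
      rw [mul_smul, mul_smul, (h2 : g • k • w = k • w), inv_smul_smul]
  · rintro ⟨g, ⟨h1, h2⟩, rfl⟩
    refine ⟨S.conj_K_stab hk h1, ?_⟩
    show (k * g * k⁻¹) • k • w = k • w
    rw [mul_smul, mul_smul, inv_smul_smul, (h2 : g • w = w)]

omit [Finite G] [FaithfulSMul G Ω] [Finite Ω] in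
theorem classOf_smul {u v : Ω} {k : G} (hk : k • u = u) :
    S.classOf u (k • v) = (fun C => C.map (MulAut.conj k).toMonoidHom) '' S.classOf u v := by
  ext C
  constructor
  · rintro ⟨w, hw, rfl⟩
    refine ⟨_, ⟨k⁻¹ • w, (S.R_smul_iff k).1 (by rw [hk, smul_inv_smul]; exact hw), rfl⟩, ?_⟩
    show Subgroup.map _ (S.K u ⊓ stabilizer G (k⁻¹ • w)) = _
    rw [← S.K_inf_stab_smul hk, smul_inv_smul]
  · rintro ⟨_, ⟨w, hw, rfl⟩, rfl⟩
    have h := S.smul k hw
    rw [hk] at h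
    exact ⟨k • w, h, (S.K_inf_stab_smul hk).symm⟩

omit [Finite G] [FaithfulSMul G Ω] in
theorem classOf_all (hp : p.Prime) {u v w : Ω} (hv : v ≠ u) (hw : w ≠ u) (hne : ¬ S.R u v w)
    (he : S.classOf u v = S.classOf u w) {z : Ω} (hz : z ≠ u) :
    S.classOf u z = S.classOf u v :=
  S.fun_blocks hp (S.classOf u) (fun h => S.classOf_congr h)
    (fun k {x y} hk _ _ hxy => by rw [S.classOf_smul hk, S.classOf_smul hk, hxy]) hv hw hne he z hz

/-- The pointwise stabilizer of a block is trivial. -/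
theorem K1_eq_bot (hp : p.Prime) {a b : Ω} (hab : a ≠ b) : S.K1 a b = ⊥ := by
  classical
  by_contra hne
  have hne' : S.K1 b a ≠ ⊥ := by
    rw [Ne, ← Subgroup.card_eq_one, S.card_K1 hab.symm hab, Subgroup.card_eq_one]
    exact hne
  obtain ⟨y₀, hy₀, hy₀a, hy₀X⟩ := S.exists_outside hp hab
  have hTH : S.K1 b a ≤ S.H a b := S.H_comm b a ▸ S.K1_le hab
  have hTK : ∀ g ∈ S.K1 b a, g ∈ S.K a := by
    intro g hg
    rcases S.blocks_dichotomy hp a with haff | htr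
    · refine S.mem_K_of_two haff hp (hTH hg).1 hab.symm hy₀a hy₀X ?_ ?_
      · rw [(hTH hg).2]; exact S.refl hab.symm
      · rw [hg.2 y₀ hy₀]; exact S.refl hy₀a
    · refine ⟨(hTH hg).1, fun z hz => ?_⟩
      by_cases hzX : S.R a b z
      · have h := S.R_smul_H (hTH hg) hzX
        exact S.trans (S.symm hzX) h
      · obtain ⟨y, hy, hya, hR⟩ := (S.meets_once hp hab htr).2.2 z hz hzX
        have h := S.smul g hR
        rw [(hTH hg).1, hg.2 y hy] at h
        exact S.trans hR (S.symm h)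
  set C := S.K a ⊓ stabilizer G b
  -- an element moving a block
  obtain ⟨k, hk, hk1⟩ : ∃ k ∈ S.K1 a b, k ≠ 1 := by
    by_contra h
    push_neg at h
    exact hne ((Subgroup.eq_bot_iff_forall _).2 h)
  obtain ⟨y, hya, hky⟩ : ∃ y, y ≠ a ∧ ¬ S.R a y (k • y) := by
    by_contra h
    push_neg at h
    exact hk1 (S.K_inf_K1 hp hab.symm ⟨hk.1, h⟩ hk)
  have hcls : S.classOf a y = S.classOf a (k • y) := by
    have hfix : ∀ w : Ω, S.K a ⊓ stabilizer G (k • w) = S.K a ⊓ stabilizer G w := fun w => by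
      ext g
      simp only [Subgroup.mem_inf, mem_stabilizer_iff]
      refine and_congr_right fun hg => ?_
      rw [← mul_smul, ← S.commute_K1_K hp hab.symm hk hg, mul_smul]
      exact smul_left_cancel_iff k
    ext D
    constructor
    · rintro ⟨w, hw, rfl⟩
      have h := S.smul k hw
      rw [hk.1] at h
      exact ⟨k • w, h, (hfix w).symm⟩
    · rintro ⟨w, hw, rfl⟩
      refine ⟨k⁻¹ • w, (S.R_smul_iff k).1 (by rw [hk.1, smul_inv_smul]; exact hw), ?_⟩
      rw [← hfix (k⁻¹ • w), smul_inv_smul]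
  have hC : ∀ z, z ≠ a → ∃ w, S.R a z w ∧ S.K a ⊓ stabilizer G w = C := by
    intro z hz
    have hb := S.classOf_all hp hya (smul_ne hk.1 hya) hky hcls (z := b) hab.symm
    have hz' := S.classOf_all hp hya (smul_ne hk.1 hya) hky hcls (z := z) hz
    have hmem : C ∈ S.classOf a z := by
      rw [hz', ← hb]; exact ⟨b, S.refl hab.symm, rfl⟩
    obtain ⟨w, hw, e⟩ := hmem
    exact ⟨w, hw, e.symm⟩
  set F : Set Ω := {x | ∀ g ∈ C, g • x = x}
  have hFB : F ⊆ S.B b a := by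
    intro x hx
    rcases eq_or_ne x b with rfl | hxb
    · exact Or.inl rfl
    · exact Or.inr (S.R_of_fixed_K1 hp hab hne' hxb fun g hg => hx g ⟨hTK g hg, (hTH hg).2⟩)
  have hFeq : F = S.B b a := by
    refine Set.eq_of_subset_of_ncard_le hFB ?_
    rw [S.B_card hab]
    have haF : a ∈ F := fun g hg => hg.1.1
    haveI : Finite (S.Blk a) := Subtype.finite
    let f : (F \ {a} : Set Ω) → S.Blk a := fun x => ⟨S.blk a x, x, x.2.2, rfl⟩
    have hfs : Function.Surjective f := by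
      rintro ⟨_, z, hz, rfl⟩
      obtain ⟨w, hw, e⟩ := hC z hz
      exact ⟨⟨w, fun g hg => (e.symm ▸ hg : g ∈ S.K a ⊓ stabilizer G w).2, S.R_ne hw⟩,
        Subtype.ext (S.block_eq hw)⟩
    have h1 := Nat.card_le_card_of_surjective f hfs
    rw [S.card_Blk hp, Nat.card_coe_set_eq] at h1
    have h2 : (F \ {a}).ncard + 1 = F.ncard := Set.ncard_sdiff_singleton_add_one haF
    omega
  obtain ⟨w, hw, hwC⟩ := hC y₀ hy₀a
  have hwb : w ≠ b := fun e => hy₀X (S.symm (e ▸ hw))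
  obtain ⟨g, hg1, hg2⟩ := S.exists_stab hab.symm (S.R_ne hw)
  have hgF : (g • ·) '' F = F := by
    have hCg : C.map (MulAut.conj g).toMonoidHom = C := by
      rw [← S.K_inf_stab_smul hg1, hg2, hwC]
    ext x
    constructor
    · rintro ⟨x, hx, rfl⟩ c hc
      rw [← hCg] at hc
      obtain ⟨c', hc', rfl⟩ := hc
      show (g * c' * g⁻¹) • g • x = g • x
      rw [mul_smul, mul_smul, inv_smul_smul, hx c' hc']
    · intro hx
      refine ⟨g⁻¹ • x, fun c hc => ?_, smul_inv_smul g x⟩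
      have h := hx (g * c * g⁻¹) (hCg ▸ ⟨c, hc, rfl⟩)
      rw [mul_smul, mul_smul, ← eq_inv_smul_iff] at h
      exact h
  rw [hFeq, S.smul_B_eq, hg1, hg2] at hgF
  exact hwb (S.centre_unique hp.two_le (Ne.symm (S.R_ne hw)) hab hgF)

/-- The stabilizer of the block of `v`. -/
def L (u v : Ω) : Subgroup G where
  carrier := {g | g • u = u ∧ ∀ w, S.R u v w → S.R u v (g • w)}
  one_mem' := ⟨one_smul G u, fun w hw => by rwa [one_smul]⟩
  mul_mem' := by
    rintro g h ⟨hg, hgR⟩ ⟨hh, hhR⟩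
    exact ⟨by rw [mul_smul, hh, hg], fun w hw => by rw [mul_smul]; exact hgR _ (hhR w hw)⟩
  inv_mem' := by
    rintro g ⟨hg, hgR⟩
    refine ⟨by rw [inv_smul_eq_iff, hg], fun w hw => ?_⟩
    have hg' : g⁻¹ • u = u := by rw [inv_smul_eq_iff, hg]
    have h1 : S.R u v (g • v) := hgR v (S.refl (S.ne_left hw))
    have h2 := S.smul g⁻¹ (S.trans (S.symm h1) hw)
    rw [inv_smul_smul, hg'] at h2
    exact h2

omit [Finite G] [FaithfulSMul G Ω] [Finite Ω] in
theorem H_le_L {u v : Ω} : S.H u v ≤ S.L u v := fun _ hg => ⟨hg.1, fun _ hw => S.R_smul_H hg hw⟩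

omit [Finite G] [FaithfulSMul G Ω] [Finite Ω] in
theorem K_le_L {u v : Ω} : S.K u ≤ S.L u v := fun _ hg =>
  ⟨hg.1, fun w hw => S.trans hw (hg.2 w (S.R_ne hw))⟩

end Sys

end Cfsg.Agent.Lib.DoublyPrimitive55
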