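import Cfsg.Agent.Lib.DoublyPrimitive55.Basic
import Cfsg.Agent.Lib.Perm.SolvablePrimeDegree

/-!
# The stabilizer of two points: order prime to `p`, action on the blocks
-/

set_option autoImplicit false

namespace Cfsg.Agent.Lib.DoublyPrimitive55

open MulAction

variable {G Ω : Type*} [Group G] [Finite G] [MulAction G Ω] [FaithfulSMul G Ω] [Finite Ω]
  {p : ℕ} (S : Sys G Ω p)

omit [Finite G] [FaithfulSMul G Ω] [Finite Ω] in
/-- Fibres of an equivariant function on a homogeneous finite set. -/
theorem fibre_card_dvd [DecidableEq Ω] {β : Type*} [DecidableEq β] (T : Finset Ω) (φ : Ω → β)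
    (h : ∀ v ∈ T, ∀ w ∈ T, ∃ k : G, k • v = w ∧ (∀ z ∈ T, k • z ∈ T) ∧
      ∀ z ∈ T, ∀ z' ∈ T, φ z = φ z' → φ (k • z) = φ (k • z')) :
    ∀ v ∈ T, T.card = (T.image φ).card * (T.filter fun y => φ y = φ v).card := by
  intro v hv
  have hle : ∀ x ∈ T, ∀ y ∈ T,
      (T.filter fun z => φ z = φ x).card ≤ (T.filter fun z => φ z = φ y).card := by
    intro x hx y hy
    obtain ⟨k, hk, hT, hφ⟩ := h x hx y hy
    refine Finset.card_le_card_of_injOn (fun z => k • z) ?_ (fun _ _ _ _ e => (smul_left_cancel_iff k).1 e)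
    intro z hz
    simp only [Finset.mem_filter, Finset.coe_filter, Set.mem_setOf_eq] at hz ⊢
    exact ⟨hT z hz.1, by rw [hφ z hz.1 x hx hz.2, hk]⟩
  rw [Finset.card_eq_sum_card_image φ T, Finset.sum_congr rfl (g := fun _ => (T.filter fun z => φ z = φ v).card),
    Finset.sum_const, smul_eq_mul]
  intro s hs
  obtain ⟨y, hy, rfl⟩ := Finset.mem_image.1 hs
  exact le_antisymm (hle y hy v hv) (hle v hv y hy)

namespace Sys

/-- The block of `v` as a set. -/
def blk (u v : Ω) : Set Ω := {w | S.R u v w}

/-- The type of blocks of `u`. -/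
abbrev Blk (u : Ω) : Type _ := {X : Set Ω // ∃ v, v ≠ u ∧ X = S.blk u v}

omit [Finite G] [FaithfulSMul G Ω] [Finite Ω] in
theorem smul_blk {u v : Ω} {g : G} (hg : g • u = u) : (g • ·) '' S.blk u v = S.blk u (g • v) := by
  ext x
  constructor
  · rintro ⟨y, hy, rfl⟩
    have h := S.smul g hy
    rwa [hg] at h
  · intro hx
    refine ⟨g⁻¹ • x, (S.R_smul_iff g).1 ?_, smul_inv_smul g x⟩
    show S.R (g • u) (g • v) (g • g⁻¹ • x)
    rw [hg, smul_inv_smul]
    exact hx

omit [Finite G] [FaithfulSMul G Ω] [Finite Ω] in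
theorem blk_eq_iff {u v w : Ω} (hw : w ≠ u) : S.blk u v = S.blk u w ↔ S.R u v w := by
  constructor
  · intro h
    exact (h.symm ▸ (S.refl hw : w ∈ S.blk u w) : w ∈ S.blk u v)
  · intro h; exact (S.block_eq h).symm

omit [Finite G] [FaithfulSMul G Ω] [Finite Ω] in
theorem smul_ne {u v : Ω} {g : G} (hg : g • u = u) (hv : v ≠ u) : g • v ≠ u :=
  fun h => hv (by rw [← smul_left_cancel_iff g, h, hg])

/-- The action of the stabilizer of `u` on its blocks. -/
noncomputable def blockAct (u : Ω) : MulAction (stabilizer G u) (S.Blk u) where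
  smul g X := ⟨((g : G) • ·) '' X.1, by
    obtain ⟨v, hv, hX⟩ := X.2
    exact ⟨(g : G) • v, smul_ne g.2 hv, by rw [hX, S.smul_blk g.2]⟩⟩
  one_smul X := Subtype.ext (by show ((((1 : stabilizer G u) : G)) • ·) '' X.1 = X.1; simp)
  mul_smul g h X := Subtype.ext (by
    show (((g * h : stabilizer G u) : G) • ·) '' X.1 = ((g : G) • ·) '' (((h : G) • ·) '' X.1)
    rw [Set.image_image]
    exact Set.image_congr' fun x => mul_smul _ _ _)

/-- The permutations induced on the blocks. -/
noncomputable def blockPerm (u : Ω) : stabilizer G u →* Equiv.Perm (S.Blk u) :=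
  letI := S.blockAct u
  MulAction.toPermHom _ _

omit [Finite G] [FaithfulSMul G Ω] [Finite Ω] in
theorem blockPerm_apply {u v : Ω} (hv : v ≠ u) (g : stabilizer G u) :
    S.blockPerm u g ⟨S.blk u v, v, hv, rfl⟩ = ⟨S.blk u ((g : G) • v), _, smul_ne g.2 hv, rfl⟩ :=
  Subtype.ext (S.smul_blk g.2)

omit [Finite G] [FaithfulSMul G Ω] [Finite Ω] in
theorem mem_ker_blockPerm {u : Ω} (g : stabilizer G u) :
    g ∈ (S.blockPerm u).ker ↔ (g : G) ∈ S.K u := by
  rw [MonoidHom.mem_ker]
  constructor
  · intro h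
    refine ⟨g.2, fun v hv => ?_⟩
    have := congrArg Subtype.val (congrArg (fun σ : Equiv.Perm (S.Blk u) => σ ⟨S.blk u v, v, hv, rfl⟩) h)
    simp only [S.blockPerm_apply hv, Equiv.Perm.one_apply] at this
    exact (S.blk_eq_iff (smul_ne g.2 hv)).1 this.symm
  · intro h
    refine Equiv.ext ?_
    rintro ⟨_, v, hv, rfl⟩
    rw [S.blockPerm_apply hv, Equiv.Perm.one_apply]
    exact Subtype.ext ((S.blk_eq_iff (smul_ne g.2 hv)).2 (h.2 v hv)).symm

omit [Finite G] [FaithfulSMul G Ω] in
theorem card_ne (S : Sys G Ω p) (u : Ω) : (Set.univ \ {u} : Set Ω).ncard = p ^ 2 := by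
  rw [Set.ncard_sdiff (Set.subset_univ _), Set.ncard_univ, Set.ncard_singleton, S.card_univ]
  rfl

omit [Finite G] [FaithfulSMul G Ω] in
theorem card_Blk (hp : p.Prime) (u : Ω) : Nat.card (S.Blk u) = p := by
  classical
  haveI := Fintype.ofFinite Ω
  set T := (Finset.univ : Finset Ω).erase u
  have hT : T.card = p ^ 2 := by
    rw [Finset.card_erase_of_mem (Finset.mem_univ u), Finset.card_univ, ← Nat.card_eq_fintype_card,
      S.card_univ]
    rfl
  obtain ⟨v, hv⟩ : T.Nonempty := Finset.card_pos.1 (by rw [hT]; exact pow_pos hp.pos 2)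
  replace hv : v ≠ u := by simpa [T] using hv
  have hfib := fibre_card_dvd (G := G) T (S.blk u) (fun a ha b hb => ?_) v (by simpa [T] using hv)
  · have hone : (T.filter fun y => S.blk u y = S.blk u v).card = p := by
      refine Eq.trans ?_ (S.card_block hv)
      rw [Set.ncard_eq_toFinset_card']
      congr 1
      ext y
      simp only [T, Finset.mem_filter, Finset.mem_erase, Finset.mem_univ, and_true, Set.mem_toFinset,
        Set.mem_setOf_eq]
      constructor
      · rintro ⟨hy, he⟩
        exact (S.blk_eq_iff hy).1 he.symm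
      · intro hR
        exact ⟨S.R_ne hR, ((S.blk_eq_iff (S.R_ne hR)).2 hR).symm⟩
    rw [hone, hT, sq] at hfib
    have hcard : Nat.card (S.Blk u) = (T.image (S.blk u)).card := by
      rw [Nat.card_congr (Equiv.subtypeEquivRight (q := fun X => X ∈ T.image (S.blk u)) fun X => by
        simp [T, eq_comm]), Nat.card_eq_fintype_card, Fintype.card_coe]
    rw [hcard]
    exact (Nat.eq_of_mul_eq_mul_right hp.pos hfib).symm
  · obtain ⟨k, hk1, hk2⟩ := S.exists_stab (show a ≠ u by simpa [T] using ha) (show b ≠ u by simpa [T] using hb)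
    refine ⟨k, hk2, fun z hz => ?_, fun z _ z' _ h => ?_⟩
    · simp only [T, Finset.mem_erase, Finset.mem_univ, and_true] at hz ⊢
      exact smul_ne hk1 hz
    · rw [← S.smul_blk hk1, ← S.smul_blk hk1, h]

omit [Finite G] [FaithfulSMul G Ω] [Finite Ω] in
theorem conj_K_stab {u : Ω} {g k : G} (hk : k • u = u) (hg : g ∈ S.K u) :
    k * g * k⁻¹ ∈ S.K u := by
  have h := (S.conj_mem_K (k := k)).2 hg
  rwa [hk] at h

/-- The kernel is transitive on every block. -/
theorem exists_K_smul (hp : p.Prime) {u v w : Ω} (h : S.R u v w) :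
    ∃ g ∈ S.K u, g • v = w := by
  classical
  haveI := Fintype.ofFinite Ω
  have hv : v ≠ u := S.ne_left h
  set T := (Finset.univ : Finset Ω).erase u with hTdef
  have hT : T.card = p ^ 2 := by
    rw [Finset.card_erase_of_mem (Finset.mem_univ u), Finset.card_univ, ← Nat.card_eq_fintype_card,
      S.card_univ]
    rfl
  set φ : Ω → Set Ω := fun y => {z | ∃ g ∈ S.K u, g • y = z} with hφ
  have hfib : ∀ y ∈ T, T.card = (T.image φ).card * (T.filter fun z => φ z = φ y).card := by
    refine fibre_card_dvd (G := G) T φ fun a ha b hb => ?_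
    obtain ⟨k, hk1, hk2⟩ := S.exists_stab (show a ≠ u by simpa [T] using ha) (show b ≠ u by simpa [T] using hb)
    refine ⟨k, hk2, fun z hz => ?_, fun z _ z' _ he => ?_⟩
    · simp only [T, Finset.mem_erase, Finset.mem_univ, and_true] at hz ⊢
      exact smul_ne hk1 hz
    · have hk1' : k⁻¹ • u = u := by rw [inv_smul_eq_iff, hk1]
      have key : ∀ y, φ (k • y) = (k • ·) '' φ y := by
        intro y
        ext x
        constructor
        · rintro ⟨g, hg, rfl⟩
          refine ⟨(k⁻¹ * g * k⁻¹⁻¹) • y, ⟨_, S.conj_K_stab hk1' hg, rfl⟩, ?_⟩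
          simp [mul_smul]
        · rintro ⟨_, ⟨g, hg, rfl⟩, rfl⟩
          exact ⟨k * g * k⁻¹, S.conj_K_stab hk1 hg, by simp [mul_smul]⟩
      rw [key, key, he]
  set d := (T.filter fun z => φ z = φ v).card with hd
  have hdv : d ∣ p ^ 2 := ⟨(T.image φ).card, by rw [← hT, hfib v (by simp [T, hv]), mul_comm]⟩
  have hsub : (T.filter fun z => φ z = φ v) ⊆ T.filter fun z => S.R u v z := by
    intro z hz
    simp only [T, Finset.mem_filter, Finset.mem_erase, Finset.mem_univ, and_true] at hz ⊢
    obtain ⟨g, hg, hgz⟩ : z ∈ φ v := hz.2 ▸ ⟨1, one_mem _, one_smul G z⟩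
    exact ⟨hz.1, hgz ▸ hg.2 v hv⟩
  have hblock : (T.filter fun z => S.R u v z).card = p := by
    refine Eq.trans ?_ (S.card_block hv)
    rw [Set.ncard_eq_toFinset_card']
    congr 1
    ext y
    simp only [T, Finset.mem_filter, Finset.mem_erase, Finset.mem_univ, and_true, Set.mem_toFinset,
      Set.mem_setOf_eq]
    exact ⟨fun h => h.2, fun h => ⟨S.R_ne h, h⟩⟩
  have hd1 : d ≠ 1 := by
    intro hd1
    have hKbot : S.K u = ⊥ := by
      rw [Subgroup.eq_bot_iff_forall]
      intro g hg
      refine S.eq_one_of_fix hg.1 fun x hx => ?_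
      have hxT : x ∈ T := by simp [T, hx]
      have hcard1 : (T.filter fun z => φ z = φ x).card = 1 := by
        have h1 := hfib x hxT
        have h2 := hfib v (by simp [T, hv])
        rw [hT] at h1 h2
        rw [← hd1, hd]
        refine Nat.eq_of_mul_eq_mul_left (Nat.pos_of_ne_zero fun e => ?_) (h1.symm.trans h2)
        rw [e, zero_mul] at h1
        exact (pow_pos hp.pos 2).ne' h1
      have hmem : g • x ∈ T.filter fun z => φ z = φ x := by
        simp only [T, Finset.mem_filter, Finset.mem_erase, Finset.mem_univ, and_true]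
        refine ⟨smul_ne hg.1 hx, Set.ext fun y => ⟨?_, ?_⟩⟩
        · rintro ⟨k, hk, rfl⟩; exact ⟨k * g, mul_mem hk hg, mul_smul _ _ _⟩
        · rintro ⟨k, hk, rfl⟩; exact ⟨k * g⁻¹, mul_mem hk (inv_mem hg), by simp [mul_smul]⟩
      exact Finset.card_le_one.1 hcard1.le _ hmem _ (by simp [T, hx])
    have hinj : Function.Injective (S.blockPerm u) := by
      rw [← MonoidHom.ker_eq_bot_iff, Subgroup.eq_bot_iff_forall]
      intro g hg
      have := (S.mem_ker_blockPerm g).1 hg
      rw [hKbot, Subgroup.mem_bot] at this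
      exact Subtype.ext this
    haveI : Finite (S.Blk u) := Subtype.finite
    have hdvd : Nat.card (stabilizer G u) ∣ p.factorial := by
      rw [← S.card_Blk hp u, ← Nat.card_perm, Nat.card_congr (MonoidHom.ofInjective hinj).toEquiv]
      exact Subgroup.card_subgroup_dvd_card _
    have hp2 : p ^ 2 ∣ Nat.card (stabilizer G u) := by
      refine ⟨Nat.card (stabilizer (stabilizer G u) v), ?_⟩
      rw [← index_mul_card_eq (B := stabilizer (stabilizer G u) v),
        index_stabilizer (stabilizer G u) v]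
      congr 1
      rw [← S.card_ne u]
      congr 1
      ext y
      simp only [Set.mem_sdiff, Set.mem_univ, Set.mem_singleton_iff, true_and]
      constructor
      · rintro ⟨k, rfl⟩; exact smul_ne k.2 hv
      · rintro hy
        obtain ⟨k, hk1, hk2⟩ := S.exists_stab hv hy
        exact ⟨⟨k, hk1⟩, hk2⟩
    have h3 := hp2.trans hdvd
    rw [← Nat.mul_factorial_pred hp.ne_zero, sq] at h3
    have h4 := (Nat.mul_dvd_mul_iff_left hp.pos).1 h3
    have := (hp.dvd_factorial).1 h4
    have := hp.two_le
    omega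
  have hdp : d = p := by
    have hle : d ≤ p := hblock ▸ Finset.card_le_card hsub
    obtain ⟨i, hi, hci⟩ := (Nat.dvd_prime_pow hp).1 hdv
    interval_cases i
    · exact absurd (by simpa using hci) hd1
    · simpa using hci
    · have := hp.two_le
      rw [hci, sq] at hle
      nlinarith
  have heq := Finset.eq_of_subset_of_card_le hsub (by rw [hblock]; omega)
  have hw : w ∈ T.filter fun z => φ z = φ v := heq.symm ▸ (by simp [T, S.R_ne h, h])
  have hwv : w ∈ φ v := (Finset.mem_filter.1 hw).2 ▸ ⟨1, one_mem _, one_smul G w⟩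
  exact hwv
where
  index_mul_card_eq {A : Type _} [Group A] {B : Subgroup A} : B.index * Nat.card B = Nat.card A :=
    B.index_mul_card

/-- A `p`-subgroup of a two-point stabilizer fixes the block pointwise. -/
theorem pGroup_le_K1 (hp : p.Prime) {u v : Ω} (huv : v ≠ u) {Q : Subgroup G} (hQ : IsPGroup p Q)
    (hQH : Q ≤ S.H u v) : Q ≤ S.K1 u v := by
  classical
  haveI := Fintype.ofFinite Ω
  haveI := Fact.mk hp
  intro g hg
  refine ⟨(hQH hg).1, fun w hw => ?_⟩
  by_contra hne
  -- the orbit of `w` lies in the block and avoids `v`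
  have horb : orbit Q w ⊆ {x | S.R u v x} \ {v} := by
    rintro _ ⟨q, rfl⟩
    refine ⟨?_, fun h => ?_⟩
    · have h := S.smul (q : G) hw
      rw [(hQH q.2).1, (hQH q.2).2] at h
      exact h
    · have : w = v := (smul_left_cancel_iff (q : G)).1 (h.trans (hQH q.2).2.symm)
      exact hne (this ▸ (hQH hg).2)
  obtain ⟨n, hn⟩ := hQ.card_orbit w
  have hle : (orbit Q w).ncard ≤ p - 1 := by
    refine le_trans (Set.ncard_le_ncard horb) ?_
    rw [Set.ncard_sdiff (by simpa using S.refl huv), S.card_block huv, Set.ncard_singleton]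
  rw [← Nat.card_coe_set_eq, hn] at hle
  have hn0 : n = 0 := by
    by_contra h0
    have := Nat.le_self_pow h0 p
    have := hp.two_le
    omega
  subst hn0
  have hsub := (Set.ncard_le_one (Set.toFinite _)).1 (le_of_eq (by rw [← Nat.card_coe_set_eq, hn, pow_zero] :
    (orbit Q w).ncard = 1))
  exact hne (hsub _ ⟨⟨g, hg⟩, rfl⟩ _ (mem_orbit_self w))

/-- The order of a two-point stabilizer is prime to `p`. -/
theorem not_dvd_card_H (hp : p.Prime) {a b : Ω} (hab : a ≠ b) : ¬ p ∣ Nat.card (S.H a b) := by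
  classical
  haveI := Fintype.ofFinite Ω
  haveI := Fact.mk hp
  intro hdvd
  obtain ⟨P⟩ : Nonempty (Sylow p (S.H a b)) := inferInstance
  set Q := (P : Subgroup (S.H a b)).map (S.H a b).subtype with hQdef
  have hQH : Q ≤ S.H a b := Subgroup.map_subtype_le _
  have hQp : IsPGroup p Q := P.2.map _
  have hQcard : Nat.card Q = p ^ (Nat.card (S.H a b)).factorization p := by
    rw [hQdef, Subgroup.card_map_of_injective (S.H a b).subtype_injective, P.card_eq_multiplicity]
  have hQ1 : Q ≠ ⊥ := fun h => by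
    rw [h, Subgroup.card_bot] at hQcard
    exact (one_lt_pow₀ hp.one_lt (hp.factorization_pos_of_dvd Nat.card_pos.ne' hdvd).ne').ne hQcard
  -- the fixed points of `Q` other than `a` lie in the block of `b`
  have key : ∀ u v, v ≠ u → Nat.card (S.H u v) = Nat.card (S.H a b) → Q ≤ S.H u v →
      ∀ x, x ≠ u → (∀ q ∈ Q, q • x = x) → S.R u v x := by
    intro u v huv hcard hQuv x hx hfix
    by_contra hne
    have hQK : ∀ q ∈ Q, q ∈ S.K u := by
      intro q hq
      have hq1 := S.pGroup_le_K1 hp huv hQp hQuv hq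
      have hQux : Q ≤ S.H u x := fun r hr => ⟨(hQuv hr).1, hfix r hr⟩
      have hq2 := S.pGroup_le_K1 hp hx hQp hQux hq
      -- a `p`-element fixing two blocks fixes all of them
      refine ⟨hq1.1, fun z hz => ?_⟩
      haveI : Finite (S.Blk u) := Subtype.finite
      let σQ : Subgroup (Equiv.Perm (S.Blk u)) := (Q.subgroupOf (stabilizer G u)).map (S.blockPerm u)
      have hσp : IsPGroup p σQ :=
        (hQp.comap_of_injective (stabilizer G u).subtype (stabilizer G u).subtype_injective).map _
      set z₀ : S.Blk u := ⟨S.blk u z, z, hz, rfl⟩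
      have hfixblk : ∀ y, ∀ hy : y ≠ u, (∀ r ∈ Q, r • y = y) →
          (⟨S.blk u y, y, hy, rfl⟩ : S.Blk u) ∈ fixedPoints σQ (S.Blk u) := by
        rintro y hy hry ⟨_, r, hr, rfl⟩
        show S.blockPerm u r _ = _
        rw [S.blockPerm_apply hy]
        exact Subtype.ext (congrArg (S.blk u) (hry r hr))
      obtain ⟨n, hn⟩ := hσp.card_orbit z₀
      have hor : (orbit σQ z₀).ncard ≤ p - 2 ∨ (orbit σQ z₀).ncard = 1 := by
        by_cases hz0 : z₀ ∈ fixedPoints σQ (S.Blk u)
        · right
          rw [Set.ncard_eq_one]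
          exact ⟨z₀, Set.Subset.antisymm (by rintro _ ⟨s, rfl⟩; exact hz0 s)
            (Set.singleton_subset_iff.2 (mem_orbit_self z₀))⟩
        · left
          set bv : S.Blk u := ⟨S.blk u v, v, huv, rfl⟩
          set bx : S.Blk u := ⟨S.blk u x, x, hx, rfl⟩
          have hvx : bv ≠ bx := fun e => hne ((S.blk_eq_iff hx).1 (congrArg Subtype.val e))
          have hfv : bv ∈ fixedPoints σQ (S.Blk u) := hfixblk v huv fun r hr => (hQuv hr).2
          have hfx : bx ∈ fixedPoints σQ (S.Blk u) := hfixblk x hx hfix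
          have hsub : orbit σQ z₀ ⊆ Set.univ \ {bv, bx} := by
            rintro _ ⟨s, rfl⟩
            refine ⟨trivial, ?_⟩
            rintro (e | e) <;> apply hz0
            · have : z₀ = bv := (smul_left_cancel_iff s).1 (e.trans (hfv s).symm)
              exact this ▸ hfv
            · have : z₀ = bx := (smul_left_cancel_iff s).1 ((Set.mem_singleton_iff.1 e).trans (hfx s).symm)
              exact this ▸ hfx
          refine le_trans (Set.ncard_le_ncard hsub) ?_
          rw [Set.ncard_sdiff (Set.subset_univ _), Set.ncard_univ, S.card_Blk hp, Set.ncard_pair hvx]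
      have hone : (orbit σQ z₀).ncard = 1 := by
        rcases hor with h | h
        · rw [← Nat.card_coe_set_eq, hn] at h ⊢
          rcases Nat.eq_zero_or_pos n with rfl | h0
          · rfl
          · have := Nat.le_self_pow h0.ne' p
            have := hp.two_le
            omega
        · exact h
      obtain ⟨z₁, hz₁⟩ := Set.ncard_eq_one.1 hone
      have hmem : S.blockPerm u ⟨q, hq1.1⟩ z₀ ∈ orbit σQ z₀ :=
        ⟨⟨_, Subgroup.mem_map_of_mem _ (show (⟨q, hq1.1⟩ : stabilizer G u) ∈ Q.subgroupOf _ from hq)⟩, rfl⟩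
      have heq : S.blockPerm u ⟨q, hq1.1⟩ z₀ = z₀ := by
        have h0 := mem_orbit_self (M := σQ) z₀
        rw [hz₁] at hmem h0
        exact (Set.mem_singleton_iff.1 hmem).trans (Set.mem_singleton_iff.1 h0).symm
      rw [S.blockPerm_apply hz] at heq
      exact (S.blk_eq_iff (smul_ne hq1.1 hz)).1 (congrArg Subtype.val heq).symm
    -- the subgroups `K ∩ K1` of all blocks coincide
    let N : Ω → Subgroup G := fun y => S.K u ⊓ S.K1 u y
    have hQN : Q ≤ N v := fun q hq => ⟨hQK q hq, S.pGroup_le_K1 hp huv hQp hQuv hq⟩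
    have hNfix : ∀ g ∈ N v, ∀ y, S.R u x y → g • y = y := by
      intro g hg y hy
      set T := Finset.univ.filter fun z : Ω => S.R u x z with hT
      have hTc : T.card = p := by
        refine Eq.trans ?_ (S.card_block hx)
        rw [Set.ncard_eq_toFinset_card']
        congr 1
        ext z; simp [T]
      let φ : Ω → Set Ω := fun z => {z' | ∃ n ∈ N v, n • z = z'}
      have hfib := fibre_card_dvd (G := G) T φ (fun z₁ hz₁ z₂ hz₂ => ?_) x (by simp [T, S.refl hx])
      swap
      · simp only [T, Finset.mem_filter, Finset.mem_univ, true_and] at hz₁ hz₂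
        obtain ⟨k, hk, hk2⟩ := S.exists_K_smul hp (S.trans (S.symm hz₁) hz₂)
        refine ⟨k, hk2, fun z hz => ?_, fun z _ z' _ he => ?_⟩
        · simp only [T, Finset.mem_filter, Finset.mem_univ, true_and] at hz ⊢
          exact S.trans hz (hk.2 z (S.R_ne hz))
        · have hNk : ∀ k ∈ S.K u, ∀ n ∈ N v, k * n * k⁻¹ ∈ N v := by
            intro k hk n hn
            refine ⟨(S.K u).mul_mem ((S.K u).mul_mem hk hn.1) ((S.K u).inv_mem hk), ?_⟩
            have h := (S.conj_mem_K1 (k := k)).2 hn.2
            rw [hk.1, ← S.K1_congr (hk.2 v huv)] at h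
            exact h
          have key : ∀ w, φ (k • w) = (k • ·) '' φ w := by
            intro w
            ext y
            constructor
            · rintro ⟨n, hn, rfl⟩
              refine ⟨(k⁻¹ * n * k⁻¹⁻¹) • w, ⟨_, hNk _ (inv_mem hk) n hn, rfl⟩, by simp [mul_smul]⟩
            · rintro ⟨_, ⟨n, hn, rfl⟩, rfl⟩
              exact ⟨k * n * k⁻¹, hNk k hk n hn, by simp [mul_smul]⟩
          rw [key, key, he]
      rw [hTc] at hfib
      rcases (Nat.dvd_prime hp).1 (Dvd.intro_left _ hfib.symm) with h1 | h1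
      · -- every orbit in the block is trivial
        by_contra hgy
        have hxy : ∀ z ∈ T, (T.filter fun z' => φ z' = φ z).card = 1 := by
          intro z hz
          obtain ⟨k, hk, hk2⟩ := S.exists_K_smul hp (Finset.mem_filter.1 hz).2
          subst hk2
          have hNk : ∀ n ∈ N v, k⁻¹ * n * k ∈ N v := by
            intro n hn
            refine ⟨(S.K u).mul_mem ((S.K u).mul_mem ((S.K u).inv_mem hk) hn.1) hk, ?_⟩
            have h := (S.conj_mem_K1 (k := k⁻¹)).2 hn.2
            rw [inv_smul_eq_iff.2 hk.1.symm, inv_inv] at h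
            have hR : S.R u v (k⁻¹ • v) := ((S.K u).inv_mem hk).2 v huv
            rwa [← S.K1_congr hR] at h
          rw [Finset.card_eq_one]
          refine ⟨k • x, Finset.eq_singleton_iff_unique_mem.2 ⟨Finset.mem_filter.2 ⟨hz, rfl⟩, ?_⟩⟩
          intro z' hz'
          obtain ⟨hz'T, hφ⟩ := Finset.mem_filter.1 hz'
          obtain ⟨n, hn, hnz⟩ : z' ∈ φ (k • x) := hφ ▸ ⟨1, one_mem _, one_smul G z'⟩
          have hx1 : (k⁻¹ * n * k) • x = x := by
            have hmem : (k⁻¹ * n * k) • x ∈ T.filter fun z => φ z = φ x := by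
              refine Finset.mem_filter.2 ⟨?_, Set.ext fun y => ⟨?_, ?_⟩⟩
              · simp only [T, Finset.mem_filter, Finset.mem_univ, true_and]
                exact (hNk n hn).1.2 x hx
              · rintro ⟨m, hm, rfl⟩; exact ⟨m * (k⁻¹ * n * k), mul_mem hm (hNk n hn), mul_smul _ _ _⟩
              · rintro ⟨m, hm, rfl⟩
                exact ⟨m * (k⁻¹ * n * k)⁻¹, mul_mem hm (inv_mem (hNk n hn)), by simp [mul_smul]⟩
            exact Finset.card_le_one.1 h1.le _ hmem _ (by simp [T, S.refl hx])
          rw [← hnz]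
          simpa [mul_smul, inv_smul_eq_iff] using hx1
        have hyT : y ∈ T := by simp [T, hy]
        refine hgy (Finset.card_le_one.1 (hxy y hyT).le _ ?_ _ (by simp [hyT]))
        refine Finset.mem_filter.2 ⟨by simpa [T] using S.trans hy (hg.1.2 y (S.R_ne hy)), Set.ext fun z => ⟨?_, ?_⟩⟩
        · rintro ⟨m, hm, rfl⟩; exact ⟨m * g, mul_mem hm hg, mul_smul _ _ _⟩
        · rintro ⟨m, hm, rfl⟩; exact ⟨m * g⁻¹, mul_mem hm (inv_mem hg), by simp [mul_smul]⟩
      · exfalso
        -- the orbit of `x` would have order `p`, but `Q` fixes `x`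
        let N' : Subgroup G := N v
        have horb : (orbit N' x).ncard = p := by
          rw [← h1, ← Set.ncard_coe_finset]
          congr 1
          ext z
          simp only [T, Finset.coe_filter, Finset.mem_filter, Finset.mem_univ, true_and, Set.mem_setOf_eq]
          constructor
          · rintro ⟨n, rfl⟩
            refine ⟨n.2.1.2 x hx, Set.ext fun y => ⟨?_, ?_⟩⟩
            · rintro ⟨m, hm, rfl⟩; exact ⟨m * n, mul_mem hm n.2, mul_smul _ _ _⟩
            · rintro ⟨m, hm, rfl⟩
              exact ⟨m * (n : G)⁻¹, mul_mem hm (inv_mem n.2), by simp [mul_smul, Subgroup.smul_def]⟩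
          · rintro ⟨-, hzφ⟩
            obtain ⟨n, hn, rfl⟩ : z ∈ φ x := hzφ ▸ ⟨1, one_mem _, one_smul G z⟩
            exact ⟨⟨n, hn⟩, rfl⟩
        have hidx := index_stabilizer N' x
        rw [horb] at hidx
        have hmul := (stabilizer N' x).index_mul_card
        rw [hidx] at hmul
        have hQle : Q.subgroupOf N' ≤ stabilizer N' x := fun q hq => hfix q hq
        have h2 : Nat.card Q ∣ Nat.card (stabilizer N' x) := by
          rw [← Nat.card_congr (Subgroup.subgroupOfEquivOfLe (hQN : Q ≤ N')).toEquiv]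
          exact Subgroup.card_dvd_of_le hQle
        have h3 : p * Nat.card Q ∣ Nat.card (S.H u v) := by
          refine (Nat.mul_dvd_mul_left p h2).trans ?_
          rw [hmul]
          exact Subgroup.card_dvd_of_le (inf_le_right.trans (S.K1_le huv))
        rw [hQcard, hcard, ← pow_succ', hp.pow_dvd_iff_le_factorization Nat.card_pos.ne'] at h3
        omega
    have hle : N v ≤ N x := fun g hg => ⟨hg.1, hg.1.1, hNfix g hg⟩
    have hconj : ∀ (k : G) (y : Ω), k • u = u →
        N (k • y) = (N y).map (MulAut.conj k).toMonoidHom := by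
      intro k y hk
      have hk' : k⁻¹ • u = u := by rw [inv_smul_eq_iff, hk]
      ext g
      constructor
      · intro hg
        refine ⟨k⁻¹ * g * k, ⟨?_, ?_⟩, by simp [mul_assoc]⟩
        · have h := S.conj_K_stab hk' hg.1
          rwa [inv_inv] at h
        · have h := (S.conj_mem_K1 (k := k⁻¹)).2 hg.2
          rwa [hk', inv_smul_smul, inv_inv] at h
      · rintro ⟨g, hg, rfl⟩
        refine ⟨S.conj_K_stab hk hg.1, ?_⟩
        have h := (S.conj_mem_K1 (k := k)).2 hg.2
        rwa [hk] at h
    have heq : N v = N x := by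
      obtain ⟨k, hk1, hk2⟩ := S.exists_stab huv hx
      refine Subgroup.eq_of_le_of_card_ge hle ?_
      rw [← hk2, hconj k v hk1, Subgroup.card_map_of_injective (MulAut.conj k).injective]
    have hall := S.fun_blocks hp N (fun {y z} h => by simp only [N, S.K1_congr h])
      (fun k {y z} hk _ _ he => by rw [hconj k y hk, hconj k z hk, he]) huv hx hne heq
    apply hQ1
    rw [Subgroup.eq_bot_iff_forall]
    intro q hq
    refine S.eq_one_of_fix (hQK q hq).1 fun y hy => ?_
    have hy' : q ∈ N y := (hall y hy).symm ▸ hQN hq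
    exact hy'.2.2 y (S.refl hy)
  -- both blocks consist of fixed points
  have h1 : S.B b a ⊆ S.B a b := by
    rintro x (rfl | hx)
    · exact Or.inr (S.refl hab.symm)
    rcases eq_or_ne x a with rfl | hxa
    · exact Or.inl rfl
    refine Or.inr (key a b hab.symm rfl hQH x hxa fun q hq => ?_)
    have hq1 := S.pGroup_le_K1 hp hab hQp (by rwa [S.H_comm]) hq
    exact hq1.2 x hx
  have h2 : S.B b a = S.B a b := Set.eq_of_subset_of_ncard_le h1 (by rw [S.B_card hab, S.B_card hab.symm])
  exact hab (S.centre_unique hp.two_le hab.symm hab h2.symm)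

end Sys

end Cfsg.Agent.Lib.DoublyPrimitive55
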